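import Cfsg.Agent.ClassicalMax.SympMinus.Step

/-!
Extraspecial two-groups of isometries of either type: products of two lifts are products of squares, so they lie in
the commutator subgroup of the isometries, and they carry elements of square minus one to one another.
-/

set_option autoImplicit false
set_option linter.unusedSectionVars false

namespace Cfsg.Agent.ClassicalMax.SympPlus

open Matrix SympType SympMinus

variable {ι : Type*} [Fintype ι] [DecidableEq ι] {E : Type*} [Field E] [Finite E]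

/-- The commutator subgroup of the isometries. -/
def Om (J : Matrix ι ι E) : Subgroup (GL ι E) := ⁅Iso J, Iso J⁆

/-- The product of two lifts with multiplier one. -/
noncomputable def lp {R : Subgroup (GL ι E)} (h : SR R) (a c : GL ι E) : GL ι E := sc h.half * (tl a * tl c)

/-- An overgroup of the normaliser within the commutator subgroup of the isometries. -/
structure Over (J : Matrix ι ι E) (R K : Subgroup (GL ι E)) : Prop where
  sr : SR R
  le : R ≤ Iso J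
  kle : K ≤ Iso J
  jne : J ≠ 0
  dim : 16 ≤ Fintype.card ι
  sq : ∀ g ∈ Iso J, g * g ∈ Om J
  knm : ∀ g ∈ Om J, Nm R g → g ∈ K

theorem one_tl {R : Subgroup (GL ι E)} (h : SR R) {a : GL ι E} (a2 : a * a = -1) :
    tl (-a) * tl a = sc (Units.mk0 2 h.two) := by
  refine Units.ext ?_
  have na2 : -a * -a = -1 := by rw [neg_mul_neg, a2]
  rw [Units.val_mul, h.tl_val na2, h.tl_val a2, sc_val, Units.val_mk0, Units.val_neg]
  simp only [Matrix.mul_add, Matrix.add_mul, Matrix.mul_one, Matrix.one_mul, Matrix.neg_mul, h.sq_val a2, neg_neg,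
    two_smul]
  abel

namespace Over

variable {J : Matrix ι ι E} {R K : Subgroup (GL ι E)} (hO : Over J R K)
include hO

theorem lp_iso {a c : GL ι E} (ha : a ∈ R) (hc : c ∈ R) (a2 : a * a = -1) (c2 : c * c = -1) :
    lp hO.sr a c ∈ Iso J := hO.sr.lift_pair_iso (hO.le ha) (hO.le hc) a2 c2

theorem lp_nm {a c : GL ι E} (ha : a ∈ R) (hc : c ∈ R) (a2 : a * a = -1) (c2 : c * c = -1) :
    Nm R (lp hO.sr a c) := hO.sr.lift_pair_nm ha hc a2 c2

theorem lp_conj (a c r : GL ι E) : lp hO.sr a c * r * (lp hO.sr a c)⁻¹ = tl a * (tl c * r * (tl c)⁻¹) * (tl a)⁻¹ := by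
  rw [lp, sc_conj']; group

theorem lp_anti {v w : GL ι E} (hv : v ∈ R) (hw : w ∈ R) (v2 : v * v = -1) (w2 : w * w = -1) (e : sg v w = -1) :
    lp hO.sr v w ∈ Om J := by
  have h := hO.sr
  obtain ⟨s, hs⟩ : ∃ s, s = lp h v w := ⟨_, rfl⟩
  obtain ⟨M, hM⟩ : ∃ M : Matrix ι ι E, M = (s : Matrix ι ι E) := ⟨_, rfl⟩
  have hMv : M = (2 : E)⁻¹ • ((1 + (v : Matrix ι ι E)) * (1 + (w : Matrix ι ι E))) := by
    rw [hM, hs, lp, Units.val_mul, Units.val_mul, sc_val, h.half_val, h.tl_val v2, h.tl_val w2, Matrix.smul_mul,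
      Matrix.one_mul]
  have evw : (v : Matrix ι ι E) * w = -((w : Matrix ι ι E) * v) := congrArg Units.val ((h.sg_neg_iff hv hw).1 e)
  obtain ⟨X, hX⟩ : ∃ X : Matrix ι ι E, X = (v : Matrix ι ι E) + w + v * w := ⟨_, rfl⟩
  have vv := h.sq_val v2
  have ww := h.sq_val w2
  have ewv : (w : Matrix ι ι E) * v = -((v : Matrix ι ι E) * w) := by rw [evw, neg_neg]
  have x1 : (v : Matrix ι ι E) * X = -1 + (v * w) - (w : Matrix ι ι E) := by
    rw [hX, mul_add, mul_add, vv, ← Matrix.mul_assoc, vv, neg_mul, one_mul]; abel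
  have x2 : (w : Matrix ι ι E) * X = -((v : Matrix ι ι E) * w) - 1 + (v : Matrix ι ι E) := by
    rw [hX, mul_add, mul_add, ww, ewv, ← Matrix.mul_assoc, ewv, neg_mul, Matrix.mul_assoc, ww, mul_neg, mul_one,
      neg_neg]
    abel
  have x3 : (v : Matrix ι ι E) * w * X = (w : Matrix ι ι E) - v - 1 := by
    rw [Matrix.mul_assoc, x2, mul_add, mul_sub, mul_neg, ← Matrix.mul_assoc, vv, mul_one, neg_mul, one_mul, neg_neg]
    abel
  have hXX : X * X = (-3 : E) • 1 := by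
    have e1 : X * X = (v : Matrix ι ι E) * X + w * X + v * w * X := by
      conv_lhs => arg 1; rw [hX]
      rw [add_mul, add_mul]
    rw [e1, x1, x2, x3]
    module
  have hMX : M = (2 : E)⁻¹ • (1 + X) := by
    rw [hMv, hX, add_mul, one_mul, mul_add, mul_one]; congr 1; abel
  have s3 : s * s * s = -1 := by
    refine Units.ext ?_
    rw [Units.val_mul, Units.val_mul, ← hM, hMX, Units.val_neg, Units.val_one, smul_mul_smul_comm, smul_mul_smul_comm]
    simp only [mul_add, add_mul, one_mul, mul_one, hXX, smul_mul_assoc, smul_add, smul_smul]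
    have h2 := h.two
    match_scalars <;> field_simp <;> ring
  have hsI : s ∈ Iso J := hs ▸ hO.lp_iso hv hw v2 w2
  have e2 : s = v * v * (s⁻¹ * s⁻¹) := by
    rw [v2, ← s3]; group
  rw [← hs, e2]
  exact mul_mem (hO.sq _ (hO.le hv)) (hO.sq _ (inv_mem hsI))

theorem exists_anti_both {v w : GL ι E} (hv : v ∈ R) (hw : w ∈ R) (v2 : v * v = -1) (w2 : w * w = -1)
    (e : sg v w = 1) : ∃ u ∈ R, u * u = -1 ∧ sg v u = -1 ∧ sg w u = -1 := by
  have h := hO.sr
  by_cases hne : NC (v * w)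
  · have v1 := h.nc_of_neg v2
    obtain ⟨u, hu, -, -, u2, -, ue, uv, -, -⟩ := h.exists_move (by have := hO.dim; omega) (mul_mem hv hw) hv hne v1 (by
      have ee : v * w * v = -w := by
        rw [mul_assoc, ← sg_eq_one_iff.1 e, ← mul_assoc, v2, neg_one_mul]
      rw [ee]
      exact ⟨fun e' => (h.nc_of_neg w2).2 (by rw [← neg_neg w, e']), fun e' => (h.nc_of_neg w2).1 (neg_inj.1 e')⟩)
    refine ⟨u, hu, u2, by rw [sg_comm, uv], ?_⟩
    rw [h.sg_mul_right hv hw hu, uv] at ue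
    rw [sg_comm]
    linarith
  · obtain ⟨y, hy, hvy⟩ := h.exists_anti hv (h.nc_of_neg v2)
    have hvw : w = v ∨ w = -v := by
      simp only [NC, not_and_or, not_not] at hne
      rcases hne with e1 | e1
      · exact Or.inr (by rw [eq_inv_mul_of_mul_eq e1, mul_one]; exact inv_eq_of_mul_eq_one_right (by rw [mul_neg, v2, neg_neg]))
      · refine Or.inl ?_
        rw [eq_inv_mul_of_mul_eq e1, inv_eq_of_mul_eq_one_right (show v * -v = 1 by rw [mul_neg, v2, neg_neg])]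
        simp
    obtain ⟨u, hu, u2, uv⟩ : ∃ u ∈ R, u * u = -1 ∧ sg v u = -1 := by
      obtain ⟨p, q, Q, pv, py, qv, qy⟩ := h.exists_pair_perp ⟨hv, hy, hvy⟩ (by have := hO.dim; omega)
      rcases h.sq y hy with y2 | y2
      · obtain ⟨t, t₀, ht, -, t2, -, htp⟩ := h.exists_neg_of_pair Q
        obtain ⟨tv, -⟩ := htp v hv (by rw [sg_comm, pv]) (by rw [sg_comm, qv])
        obtain ⟨ty, -⟩ := htp y hy (by rw [sg_comm, py]) (by rw [sg_comm, qy])
        exact ⟨y * t, mul_mem hy ht, by rw [h.mul_sq_comm ty, y2, t2, one_mul],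
          by rw [h.sg_mul_right hy ht hv, hvy, tv, mul_one]⟩
      · exact ⟨y, hy, y2, hvy⟩
    refine ⟨u, hu, u2, uv, ?_⟩
    rcases hvw with rfl | rfl
    · exact uv
    · rw [show -v = (-1 : GL ι E) * v by rw [neg_one_mul], h.sg_mul h.neg hv hu, uv, show sg (-1 : GL ι E) u = 1 by simp [sg],
        one_mul]

theorem lp_mem_om {v w : GL ι E} (hv : v ∈ R) (hw : w ∈ R) (v2 : v * v = -1) (w2 : w * w = -1) :
    lp hO.sr v w ∈ Om J := by
  have h := hO.sr
  rcases h.sg_cases v w with e | e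
  swap
  · exact hO.lp_anti hv hw v2 w2 e
  obtain ⟨u, hu, u2, vu, wu⟩ := hO.exists_anti_both hv hw v2 w2 e
  have nw2 : -w * -w = -1 := by rw [neg_mul_neg, w2]
  have h1 := hO.lp_anti hv hu v2 u2 vu
  have h2 := hO.lp_anti (h.neg_mem hw) hu nw2 u2 (by
    rw [show -w = (-1 : GL ι E) * w by rw [neg_one_mul], h.sg_mul h.neg hw hu, wu, show sg (-1 : GL ι E) u = 1 by simp [sg],
      one_mul])
  convert mul_mem h1 (inv_mem h2) using 1
  rw [lp, lp, lp]
  rw [show sc h.half * (tl v * tl u) * (sc h.half * (tl (-w) * tl u))⁻¹ =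
    sc h.half * (tl v * (tl (-w))⁻¹) * (sc h.half)⁻¹ by group,
    show ∀ z : GL ι E, sc h.half * z * (sc h.half)⁻¹ = z from fun z => by rw [sc_comm, mul_inv_cancel_right]]
  have e1 := one_tl h w2
  have e2 : tl w = (tl (-w))⁻¹ * sc (Units.mk0 2 h.two) := by rw [← e1]; group
  rw [e2, ← sc_comm (Units.mk0 2 h.two) (tl (-w))⁻¹, ← mul_assoc (tl v), ← sc_comm, mul_assoc (sc (Units.mk0 2 h.two)),
    ← mul_assoc, sc_mul, show h.half * Units.mk0 2 h.two = 1 from Units.ext (by simp [h.half_val, h.two]), sc_one,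
    one_mul]

theorem lp_mem {v w : GL ι E} (hv : v ∈ R) (hw : w ∈ R) (v2 : v * v = -1) (w2 : w * w = -1) :
    lp hO.sr v w ∈ K := hO.knm _ (hO.lp_mem_om hv hw v2 w2) (hO.lp_nm hv hw v2 w2)

theorem lp_self {v : GL ι E} (v2 : v * v = -1) : lp hO.sr v v = v := by
  refine Units.ext ?_
  rw [lp, Units.val_mul, Units.val_mul, sc_val, hO.sr.half_val, hO.sr.tl_val v2, Matrix.smul_mul, Matrix.one_mul,
    mul_add, add_mul, add_mul, one_mul, mul_one, one_mul, hO.sr.sq_val v2]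
  have := hO.sr.two
  match_scalars <;> field_simp <;> ring

theorem rle : R ≤ K := fun r hr => by
  have h := hO.sr
  have neg : ∀ v ∈ R, v * v = -1 → v ∈ K := fun v hv v2 => hO.lp_self v2 ▸ hO.lp_mem hv hv v2 v2
  rcases h.sq r hr with e | e
  swap
  · exact neg r hr e
  by_cases hn : NC r
  · obtain ⟨z, hz, z2, zr⟩ := h.exists_neg_factor (by have := hO.dim; omega) hr hn e
    have := mul_mem (inv_mem (neg z hz z2)) (neg _ (mul_mem hz hr) zr)
    rwa [inv_mul_cancel_left] at this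
  · simp only [NC, not_and_or, not_not] at hn
    rcases hn with rfl | rfl
    · exact one_mem K
    · obtain ⟨-, -, z, hz, -, -, z2⟩ := h.exists_both (by have := hO.dim; omega)
      exact z2 ▸ mul_mem (neg z hz z2) (neg z hz z2)

/-- An element separating two, commuting with a third. -/
theorem exists_flip {a c c' : GL ι E} (ha : a ∈ R) (hc : c ∈ R) (hc' : c' ∈ R) (a2 : a * a = -1) (c2 : c * c = -1)
    (c'2 : c' * c' = -1) (ac : sg a c = 1) (ac' : sg a c' = 1) (nc : NC (a * c)) (nc' : NC (a * c')) :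
    ∃ e ∈ R, e * e = -1 ∧ sg e a = 1 ∧ sg e c = -1 ∧ sg e c' = -1 := by
  have h := hO.sr
  obtain ⟨v, hv, va, vc⟩ := h.sep ha hc (h.nc_of_neg c2) nc
  obtain ⟨w, hw, wa, wc⟩ := h.sep ha hc' (h.nc_of_neg c'2) nc'
  obtain ⟨e, he, ea, ec, ec'⟩ : ∃ e ∈ R, sg e a = 1 ∧ sg e c = -1 ∧ sg e c' = -1 := by
    rcases h.sg_cases v c' with e1 | e1
    swap
    · exact ⟨v, hv, va, vc, e1⟩
    rcases h.sg_cases w c with e2 | e2
    swap
    · exact ⟨w, hw, wa, e2, wc⟩
    exact ⟨v * w, mul_mem hv hw, by rw [h.sg_mul hv hw ha, va, wa, one_mul], by rw [h.sg_mul hv hw hc, vc, e2, mul_one],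
      by rw [h.sg_mul hv hw hc', e1, wc, one_mul]⟩
  rcases h.sq e he with e2 | e2
  · exact ⟨e * a, mul_mem he ha, by rw [h.mul_sq_comm ea, e2, a2, one_mul],
      by rw [h.sg_mul he ha ha, ea, sg_self, one_mul], by rw [h.sg_mul he ha hc, ec, ac, mul_one],
      by rw [h.sg_mul he ha hc', ec', ac', mul_one]⟩
  · exact ⟨e, he, e2, ea, ec, ec'⟩

theorem carry_anti {v w : GL ι E} (hv : v ∈ R) (hw : w ∈ R) (v2 : v * v = -1) (w2 : w * w = -1) (e : sg v w = -1) :
    ∃ n ∈ K, Nm R n ∧ n * v * n⁻¹ = w ∧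
      ∀ r : GL ι E, r * v = v * r → r * w = w * r → n * r * n⁻¹ = r := by
  have h := hO.sr
  have hwv : sg w v = -1 := by rw [sg_comm, e]
  have u2 : w * v⁻¹ * (w * v⁻¹) = -1 := by
    rw [inv_eq_of_mul_eq_one_right (show v * -v = 1 by rw [mul_neg, v2, neg_neg]), mul_neg, neg_mul_neg,
      h.mul_sq_anti hw hv hwv, w2, v2]
    simp
  refine ⟨lp h (w * v⁻¹) v, hO.lp_mem (mul_mem hw (inv_mem hv)) hv u2 v2, hO.lp_nm (mul_mem hw (inv_mem hv)) hv u2 v2,
    ?_, fun r r1 r2 => ?_⟩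
  · rw [hO.lp_conj, h.tl_fix v2 rfl, h.tl_move u2 ((h.sg_neg_iff (mul_mem hw (inv_mem hv)) hv).1 ?_),
      inv_mul_cancel_right]
    rw [h.sg_mul hw (inv_mem hv) hv, hwv, show sg v⁻¹ v = 1 by rw [sg_eq_one_iff]; group, mul_one]
  · rw [hO.lp_conj, h.tl_fix v2 r1.symm, h.tl_fix u2]
    have r3 : r * v⁻¹ = v⁻¹ * r := by rw [eq_inv_mul_iff_mul_eq, ← mul_assoc, ← r1, mul_inv_cancel_right]
    rw [mul_assoc, ← r3, ← mul_assoc, ← r2, mul_assoc]

/-- Elements of square minus one are conjugate. -/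
theorem carry {v w : GL ι E} (hv : v ∈ R) (hw : w ∈ R) (v2 : v * v = -1) (w2 : w * w = -1) :
    ∃ n ∈ K, Nm R n ∧ n * v * n⁻¹ = w := by
  have h := hO.sr
  rcases h.sg_cases v w with e | e
  swap
  · obtain ⟨n, hn, hn', e', -⟩ := hO.carry_anti hv hw v2 w2 e; exact ⟨n, hn, hn', e'⟩
  obtain ⟨u, hu, u2, vu, wu⟩ := hO.exists_anti_both hv hw v2 w2 e
  obtain ⟨n, hn, hn', e1, -⟩ := hO.carry_anti hv hu v2 u2 vu
  obtain ⟨m, hm, hm', e2, -⟩ := hO.carry_anti hu hw u2 w2 (by rw [sg_comm, wu])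
  exact ⟨m * n, mul_mem hm hn, hm'.mul hn', by rw [show m * n * v * (m * n)⁻¹ = m * (n * v * n⁻¹) * m⁻¹ by group, e1, e2]⟩

/-- Elements of square minus one are conjugate by elements fixing one that commutes with them. -/
theorem carry_fix {a v w : GL ι E} (ha : a ∈ R) (hv : v ∈ R) (hw : w ∈ R) (a2 : a * a = -1) (v2 : v * v = -1)
    (w2 : w * w = -1) (av : sg a v = 1) (aw : sg a w = 1) (nv : NC (a * v)) (nw : NC (a * w)) :
    ∃ n ∈ K, Nm R n ∧ n * v * n⁻¹ = w ∧ n * a = a * n := by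
  have h := hO.sr
  have hav := sg_eq_one_iff.1 av
  have haw := sg_eq_one_iff.1 aw
  rcases h.sg_cases v w with e | e
  swap
  · obtain ⟨n, hn, hn', e', hf⟩ := hO.carry_anti hv hw v2 w2 e
    exact ⟨n, hn, hn', e', mul_inv_eq_iff_eq_mul.1 (hf a hav haw)⟩
  obtain ⟨u, hu, u2, ua, uv, uw⟩ := hO.exists_flip ha hv hw a2 v2 w2 av aw nv nw
  have hau := (sg_eq_one_iff.1 ua).symm
  obtain ⟨n, hn, hn', e1, f1⟩ := hO.carry_anti hv hu v2 u2 (by rw [sg_comm, uv])
  obtain ⟨m, hm, hm', e2, f2⟩ := hO.carry_anti hu hw u2 w2 uw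
  refine ⟨m * n, mul_mem hm hn, hm'.mul hn', by rw [show m * n * v * (m * n)⁻¹ = m * (n * v * n⁻¹) * m⁻¹ by group, e1, e2], ?_⟩
  have g1 := mul_inv_eq_iff_eq_mul.1 (f1 a hav hau)
  have g2 := mul_inv_eq_iff_eq_mul.1 (f2 a hau haw)
  rw [mul_assoc, g1, ← mul_assoc, g2, mul_assoc]

end Over

end Cfsg.Agent.ClassicalMax.SympPlus
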