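import Cfsg.Agent.ClassicalMax.SympPlus.Finish
import Cfsg.Agent.ClassicalMax.SympMinus.Bridge
import Cfsg.Agent.ClassicalMax.RootPlanes
import Cfsg.Agent.Classical.ExcCore

/-!
Normalisers of extraspecial two-groups are maximal in `Ω` over prime fields.
-/

set_option autoImplicit false
set_option linter.unusedSectionVars false
set_option linter.style.haveILetI false

namespace Cfsg.Agent.ClassicalMax.SympPlus

open Matrix Module QuadraticMap SympType SympMinus Cfsg.Agent.Classical Cfsg.Agent.Classical.Quad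
open Cfsg.Agent.ClassicalMax.Subfield

variable {F : Type*} [Field F] [Fintype F] {ι : Type} [Fintype ι] [DecidableEq ι] (Q : QuadraticForm F (ι → F))

/-- The matrix of the polar form. -/
noncomputable def pJ : Matrix ι ι F := LinearMap.BilinForm.toMatrix' (polarBilin Q)

theorem pJ_apply (u v : ι → F) : u ⬝ᵥ (pJ Q *ᵥ v) = polar Q u v := by
  rw [← Matrix.toBilin'_apply', pJ, Matrix.toBilin'_toMatrix', polarBilin_apply_apply]

theorem pJ_symm : (pJ Q)ᵀ = pJ Q := by
  ext i k
  rw [Matrix.transpose_apply]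
  simp only [pJ, LinearMap.BilinForm.toMatrix'_apply, polarBilin_apply_apply]
  exact polar_comm Q _ _

theorem pJ_unit (hQ : (polarBilin Q).Nondegenerate) : IsUnit (pJ Q) := by
  rw [Matrix.isUnit_iff_isUnit_det, isUnit_iff_ne_zero]
  exact (LinearMap.BilinForm.nondegenerate_iff_det_ne_zero (Pi.basisFun F ι)).1 hQ |> fun h => by
    simpa [pJ, LinearMap.BilinForm.toMatrix_basisFun] using h

theorem iso_eq (h2 : (2 : F) ≠ 0) : Iso (pJ Q) = Cfsg.isometryGroup F ⇑Q := by
  ext g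
  rw [mem_iso]
  have e : ∀ u v, u ⬝ᵥ (((g : Matrix ι ι F)ᵀ * pJ Q * (g : Matrix ι ι F)) *ᵥ v) =
      polar Q ((g : Matrix ι ι F) *ᵥ u) ((g : Matrix ι ι F) *ᵥ v) := fun u v => by
    rw [← pJ_apply, Matrix.mul_assoc, ← Matrix.mulVec_mulVec, ← Matrix.mulVec_mulVec, Matrix.dotProduct_mulVec u,
      Matrix.vecMul_transpose]
  constructor
  · intro h u _
    show Q ((g : Matrix ι ι F) *ᵥ u) = Q u
    have := e u u
    rw [h, pJ_apply, polar_self, polar_self] at this
    simp only [nsmul_eq_mul, Nat.cast_ofNat] at this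
    exact (mul_left_cancel₀ h2 this).symm
  · intro h
    have hq : ∀ u, Q ((g : Matrix ι ι F) *ᵥ u) = Q u := fun u => h u u
    refine Matrix.ext fun i k => ?_
    have h0 : (Pi.single i 1) ⬝ᵥ (((g : Matrix ι ι F)ᵀ * pJ Q * (g : Matrix ι ι F)) *ᵥ Pi.single k 1) =
        (Pi.single i 1) ⬝ᵥ (pJ Q *ᵥ Pi.single k 1) := by
      rw [e, pJ_apply]
      simp only [polar, ← Matrix.mulVec_add, hq]
    simpa [Matrix.mulVec_single_one, single_one_dotProduct] using h0

theorem om_eq (h2 : (2 : F) ≠ 0) : Om (pJ Q) = Cfsg.Geo.omegaGL ⇑Q := by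
  rw [Om, iso_eq Q h2, Cfsg.Geo.omegaGL, Cfsg.Omega, commutator_def, Subgroup.map_commutator,
    ← MonoidHom.range_eq_map, Subgroup.range_subtype]

theorem sq_mem (hQ : (polarBilin Q).Nondegenerate) (h2 : (2 : F) ≠ 0) (hn : 2 ≤ Fintype.card ι) :
    ∀ g ∈ Iso (pJ Q), g * g ∈ Om (pJ Q) := by
  intro g hg
  rw [iso_eq Q h2] at hg
  obtain ⟨k, hk⟩ : ∃ k : oG Q, k.1 = glEquiv ι F g := ⟨⟨glEquiv ι F g, fun x => by
    rw [glEquiv_apply]; exact hg x x⟩, rfl⟩
  have h := (RootOrth.mem_omegaGL Q (k * k)).2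
    (Exc.sq_mem_commutator hQ h2 (by rw [Module.finrank_fintype_fun_eq_card]; exact hn) k)
  rwa [Subgroup.coe_mul, map_mul, hk, MulEquiv.symm_apply_apply, ← om_eq Q h2] at h

/-- The matrix of an isometry. -/
noncomputable def toG : oG Q →* GL ι F := (glEquiv ι F).symm.toMonoidHom.comp (oG Q).subtype

theorem toG_apply (g : oG Q) (x : ι → F) : (toG Q g : Matrix ι ι F) *ᵥ x = g.1 x := by
  rw [← glEquiv_apply]
  exact congrArg (fun f : (ι → F) ≃ₗ[F] (ι → F) => f x) ((glEquiv ι F).apply_symm_apply g.1)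

theorem toG_iso (h2 : (2 : F) ≠ 0) (g : oG Q) : toG Q g ∈ Iso (pJ Q) := by
  rw [iso_eq Q h2]
  intro u _
  show Q ((toG Q g : Matrix ι ι F) *ᵥ u) = Q u
  rw [toG_apply]
  exact g.2 u

variable {Q}

/-- A root element commuting with a complex structure. -/
theorem sO_commutes (h2 : (2 : F) ≠ 0) {a : GL ι F} (ha : a ∈ Iso (pJ Q)) (a2 : a * a = -1) {e : ι → F}
    (he : Q e = 0) (hw : polar Q e ((a : Matrix ι ι F) *ᵥ e) = 0) :
    toG Q (sO he hw) ∈ Ca (pJ Q) a ∧
      ((toG Q (sO he hw) : Matrix ι ι F) - 1) * ((toG Q (sO he hw) : Matrix ι ι F) - 1) = 0 := by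
  obtain ⟨f, hf⟩ : ∃ f, f = (a : Matrix ι ι F) *ᵥ e := ⟨_, rfl⟩
  have haq : ∀ u, Q ((a : Matrix ι ι F) *ᵥ u) = Q u := fun u => (iso_eq Q h2 ▸ ha) u u
  have haB : ∀ u v, polar Q ((a : Matrix ι ι F) *ᵥ u) ((a : Matrix ι ι F) *ᵥ v) = polar Q u v := fun u v => by
    simp only [polar, ← Matrix.mulVec_add, haq]
  have haa : ∀ u, (a : Matrix ι ι F) *ᵥ ((a : Matrix ι ι F) *ᵥ u) = -u := fun u => by
    rw [Matrix.mulVec_mulVec, ← Units.val_mul, a2, Units.val_neg, Units.val_one, Matrix.neg_mulVec, Matrix.one_mulVec]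
  have hsk : ∀ u v, polar Q ((a : Matrix ι ι F) *ᵥ u) v = -polar Q u ((a : Matrix ι ι F) *ᵥ v) := fun u v => by
    have := haB u ((a : Matrix ι ι F) *ᵥ v)
    rw [haa, polar_neg_right] at this
    linear_combination -this
  have fee : Q f = 0 := by rw [hf, haq, he]
  have act : ∀ x, (toG Q (sO he hw) : Matrix ι ι F) *ᵥ x = x + polar Q x f • e - polar Q x e • f := fun x => by
    rw [toG_apply, sO_apply, hf, haq, he]
    simp only [zero_mul, neg_zero, zero_smul, add_zero, neg_smul, ← sub_eq_add_neg]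
  refine ⟨mem_Ca.2 ⟨toG_iso Q h2 _, Units.ext (Matrix.ext_iff_mulVec.2 fun x => ?_)⟩,
    Matrix.ext_iff_mulVec.2 fun x => ?_⟩
  · simp only [Units.val_mul, ← Matrix.mulVec_mulVec, act, Matrix.mulVec_add, Matrix.mulVec_sub, Matrix.mulVec_smul]
    rw [hf, haB, haa, hsk x e, ← hf]
    simp only [smul_neg, neg_smul, sub_neg_eq_add, add_sub_assoc]
    abel
  · have key : ∀ z, ((toG Q (sO he hw) : Matrix ι ι F) - 1) *ᵥ z = polar Q z f • e - polar Q z e • f := fun z => by
      rw [Matrix.sub_mulVec, act, Matrix.one_mulVec]; abel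
    rw [← Matrix.mulVec_mulVec, key x, Matrix.mulVec_sub, Matrix.mulVec_smul, Matrix.mulVec_smul, key, key,
      Matrix.zero_mulVec]
    have e1 : polar Q e e = 0 := by rw [polar_self, he, smul_zero]
    have e2 : polar Q f f = 0 := by rw [polar_self, fee, smul_zero]
    rw [e1, e2, show polar Q f e = 0 by rw [polar_comm, hf, hw], show polar Q e f = 0 by rw [hf, hw]]
    simp

variable (hQ : (polarBilin Q).Nondegenerate) {R K : Subgroup (GL ι F)} (hO : Over (pJ Q) R K)
include hQ hO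

/-- One full centraliser gives all root elements. -/
theorem root_of_full {p : ℕ} [CharP F p] (hp : Fintype.card F = p) (hn : (Fintype.card ι : F) ≠ 0)
    (hf : ∀ a ∈ R, a * a = -1 → FullAt (pJ Q) K a) : eo Q ≤ K.comap (toG Q) := by
  classical
  have h := hO.sr
  have h2 := h.two
  have hnat : ∀ x : F, ∃ m : ℕ, (m : F) = x := fun x => by
    have inj : Function.Injective fun i : Fin p => ((i : ℕ) : F) := fun i k e =>
      Fin.ext (CharP.natCast_injOn_Iio F p i.2 k.2 e)
    obtain ⟨i, hi⟩ := ((Fintype.bijective_iff_injective_and_card _).2 ⟨inj, by rw [Fintype.card_fin, hp]⟩).2 x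
    exact ⟨i, hi⟩
  refine (Subgroup.closure_le _).2 ?_
  rintro _ ⟨e, f, he, hef, rfl⟩
  by_cases he0 : e = 0
  · have e' : sO he hef = 1 := ext_oG fun x => by rw [sO_apply, oG_one_apply, he0]; simp [polar]
    exact e' ▸ one_mem _
  obtain ⟨W, hW⟩ : ∃ W : Submodule F (ι → F), ∀ w, w ∈ W ↔ ∃ hw : polar Q e w = 0, toG Q (sO he hw) ∈ K := by
    have add : ∀ u v, (∃ hu : polar Q e u = 0, toG Q (sO he hu) ∈ K) → (∃ hv : polar Q e v = 0, toG Q (sO he hv) ∈ K) →
        ∃ hw : polar Q e (u + v) = 0, toG Q (sO he hw) ∈ K := fun u v ⟨hu, mu⟩ ⟨hv, mv⟩ =>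
      ⟨polar_perp_add hu hv, by rw [← sO_mul he hu hv, map_mul]; exact mul_mem mu mv⟩
    have zero : ∃ hw : polar Q e (0 : ι → F) = 0, toG Q (sO he hw) ∈ K :=
      ⟨by simp [polar], by rw [sO_zero, map_one]; exact one_mem K⟩
    refine ⟨{ carrier := {w | ∃ hw : polar Q e w = 0, toG Q (sO he hw) ∈ K}
              add_mem' := fun {u v} => add u v
              zero_mem' := zero
              smul_mem' := fun c w hw => ?_ }, fun w => Iff.rfl⟩
    obtain ⟨m, rfl⟩ := hnat c
    induction m with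
    | zero => simpa using zero
    | succ m ih => rw [Nat.cast_succ, add_smul, one_smul]; exact add _ _ ih hw
  have hRW : ∀ r : GL ι F, r ∈ R → r * r = -1 → (r : Matrix ι ι F) *ᵥ e ∈ W := fun r hr r2 => by
    have hperp : polar Q e ((r : Matrix ι ι F) *ᵥ e) = 0 := by
      have hq : ∀ u, Q ((r : Matrix ι ι F) *ᵥ u) = Q u := fun u => (iso_eq Q h2 ▸ hO.le hr) u u
      have haa : (r : Matrix ι ι F) *ᵥ ((r : Matrix ι ι F) *ᵥ e) = -e := by
        rw [Matrix.mulVec_mulVec, h.sq_val r2, Matrix.neg_mulVec, Matrix.one_mulVec]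
      have e1 : polar Q ((r : Matrix ι ι F) *ᵥ e) ((r : Matrix ι ι F) *ᵥ ((r : Matrix ι ι F) *ᵥ e)) =
          polar Q e ((r : Matrix ι ι F) *ᵥ e) := by simp only [polar, ← Matrix.mulVec_add, hq]
      rw [haa, polar_neg_right, polar_comm] at e1
      exact (mul_eq_zero.1 (show (2 : F) * polar Q e ((r : Matrix ι ι F) *ᵥ e) = 0 by linear_combination -e1)).resolve_left h2
    obtain ⟨hT, hTT⟩ := sO_commutes h2 (hO.le hr) r2 he hperp
    exact (hW _).2 ⟨hperp, hf r hr r2 _ hT hTT⟩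
  suffices f ∈ W by
    obtain ⟨hf', hm⟩ := (hW f).1 this
    exact hm
  obtain ⟨g, hg⟩ : ∃ g, polar Q g e = 1 := by
    by_contra hc
    push Not at hc
    refine he0 (hQ.2 e fun g => ?_)
    by_contra hne
    refine hc ((polar Q g e)⁻¹ • g) ?_
    rw [polar_smul_left, smul_eq_mul]
    exact inv_mul_cancel₀ hne
  haveI : Fintype R := Fintype.ofFinite R
  have e1 := reproduce hO hn e f g
  have e2 := reproduce hO hn e g f
  simp only [pJ_apply] at e1 e2
  rw [hg, mul_one] at e1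
  rw [show polar Q f e = 0 by rw [polar_comm, hef], mul_zero, zero_smul] at e2
  have e3 := congrArg₂ (· - ·) e1 e2
  simp only [← Finset.sum_sub_distrib, ← sub_smul, sub_zero] at e3
  have hmem : ((2 : F) * Fintype.card ι) • f ∈ W := by
    rw [← e3]
    refine Submodule.sum_mem _ fun r _ => ?_
    rcases h.sq _ r.2 with r2 | r2
    · have hq : ∀ u, Q ((r.1 : Matrix ι ι F) *ᵥ u) = Q u := fun u => (iso_eq Q h2 ▸ hO.le r.2) u u
      have e4 : polar Q ((r.1 : Matrix ι ι F) *ᵥ g) f = polar Q g ((r.1 : Matrix ι ι F) *ᵥ f) := by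
        conv_rhs => rw [show g = (r.1 : Matrix ι ι F) *ᵥ ((r.1 : Matrix ι ι F) *ᵥ g) by
          rw [Matrix.mulVec_mulVec, ← Units.val_mul, r2, Units.val_one, Matrix.one_mulVec]]
        simp only [polar, ← Matrix.mulVec_add, hq]
      rw [e4, polar_comm Q g, sub_self, zero_smul]
      exact zero_mem W
    · exact Submodule.smul_mem _ _ (hRW r.1 r.2 r2)
  exact (W.smul_mem_iff (mul_ne_zero h2 hn)).1 hmem

/-- Overgroups inside `Ω` normalise or are everything. -/
theorem dichotomy {p m : ℕ} (hp : p.Prime) (hpo : Odd p) (hF : Fintype.card F = p) (hm : 1 ≤ m)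
    (hι : Fintype.card ι = 2 * 2 ^ (m + 2)) : (∀ g ∈ K, Nm R g) ∨ Cfsg.Geo.omegaGL ⇑Q ≤ K := by
  have h := hO.sr
  haveI := Fact.mk hp
  haveI : CharP F p := charP_of_card_eq_prime_pow (f := 1) (by rw [pow_one, hF])
  by_cases hs : ∀ a ∈ R, a * a = -1 → SmallAt R K a
  · exact Or.inl (nm_of_small hO hs)
  push Not at hs
  obtain ⟨a, ha, a2, hna⟩ := hs
  have hfa : FullAt (pJ Q) K a :=
    (small_or_root_prime hp hpo hF hm hι hO (pJ_symm Q) (pJ_unit Q hQ) ha a2).resolve_left hna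
  have hn : (Fintype.card ι : F) ≠ 0 := by
    rw [hι, ← pow_succ', Nat.cast_pow, Nat.cast_ofNat]
    exact pow_ne_zero _ h.two
  have heo := root_of_full hQ hO hF hn fun a' ha' a'2 => full_carry hO ha ha' a2 a'2 hfa
  refine Or.inr fun g hg => ?_
  obtain ⟨k, hk, hkg⟩ := RootOrth.exists_oG_of_omega Q hg
  have := heo (commutator_le_eo hQ (by
    rw [Module.finrank_fintype_fun_eq_card]
    have := hO.dim
    omega) hk)
  rw [Subgroup.mem_comap, toG, MonoidHom.comp_apply, Subgroup.coe_subtype, hkg] at this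
  simpa using this

omit hO in
/-- The two-group is not normal. -/
theorem exists_not_nm {R : Subgroup (GL ι F)} (h : SR R) (hn : 9 ≤ Fintype.card ι) :
    ∃ g ∈ Cfsg.Geo.omegaGL ⇑Q, ¬ Nm R g := by
  classical
  have h2 := h.two
  obtain ⟨e, he0, he⟩ := exists_singular Q (by rw [Module.finrank_fintype_fun_eq_card]; omega)
  obtain ⟨w, hw, hwe⟩ : ∃ w, polar Q e w = 0 ∧ w ∉ Submodule.span F {e} := by
    by_contra hc
    push Not at hc
    have h1 : LinearMap.ker (polarBilin Q e) ≤ Submodule.span F {e} := fun w hw => hc w hw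
    have h3 := LinearMap.finrank_range_add_finrank_ker (polarBilin Q e)
    have h4 : finrank F (LinearMap.range (polarBilin Q e)) ≤ 1 :=
      (Submodule.finrank_le _).trans (by rw [Module.finrank_self])
    have h5 := (Submodule.finrank_mono h1).trans (finrank_span_singleton (K := F) he0).le
    rw [Module.finrank_fintype_fun_eq_card] at h3
    omega
  obtain ⟨T, hT⟩ : ∃ T, T = sO he hw := ⟨_, rfl⟩
  have act : ∀ x, polar Q x e = 0 → polar Q x w = 0 → T.1 x = x := fun x h1 h3 => by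
    rw [hT, sO_apply, h1, h3]; simp
  have acti : ∀ x, polar Q x e = 0 → polar Q x w = 0 → T⁻¹.1 x = x := fun x h1 h3 => by
    conv_lhs => rw [← act x h1 h3]
    rw [← oG_mul_apply, inv_mul_cancel, oG_one_apply]
  have hTO : toG Q T ∈ Cfsg.Geo.omegaGL ⇑Q :=
    (RootOrth.mem_omegaGL Q T).2 (Subgroup.commutator_mono le_top le_top
      (eo_le_commutator_eo hQ (by rw [Module.finrank_fintype_fun_eq_card]; omega) (hT ▸ sO_mem_eo he hw)))
  refine ⟨_, hTO, fun hN => ?_⟩
  have hcomm : ∀ r ∈ R, toG Q T * r = r * toG Q T := by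
    intro r hr
    obtain ⟨s, hs⟩ : ∃ s, s = toG Q T * r * (toG Q T)⁻¹ * r⁻¹ := ⟨_, rfl⟩
    have hsR : s ∈ R := hs ▸ mul_mem (hN r hr) (inv_mem hr)
    obtain ⟨D, hD⟩ : ∃ D : (ι → F) →ₗ[F] F × F × F × F, ∀ v, D v =
        (polar Q e v, polar Q w v, polar Q e (((r⁻¹ : GL ι F) : Matrix ι ι F) *ᵥ v),
          polar Q w (((r⁻¹ : GL ι F) : Matrix ι ι F) *ᵥ v)) :=
      ⟨(polarBilin Q e).prod ((polarBilin Q w).prod
        (((polarBilin Q e).comp (Matrix.toLin' ((r⁻¹ : GL ι F) : Matrix ι ι F))).prod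
          ((polarBilin Q w).comp (Matrix.toLin' ((r⁻¹ : GL ι F) : Matrix ι ι F))))), fun v => rfl⟩
    have hfix : ∀ v ∈ LinearMap.ker D, (s : Matrix ι ι F) *ᵥ v = v := by
      intro v hv
      rw [LinearMap.mem_ker, hD] at hv
      simp only [Prod.mk_eq_zero] at hv
      obtain ⟨v1, v2, v3, v4⟩ := hv
      rw [polar_comm] at v1 v2 v3 v4
      rw [hs, Units.val_mul, Units.val_mul, Units.val_mul, ← Matrix.mulVec_mulVec, ← Matrix.mulVec_mulVec,
        ← Matrix.mulVec_mulVec, ← map_inv, toG_apply Q T⁻¹, acti _ v3 v4, Matrix.mulVec_mulVec _ (r : Matrix ι ι F), Units.mul_inv,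
        Matrix.one_mulVec, toG_apply, act _ v1 v2]
    have hker : Fintype.card ι ≤ finrank F (LinearMap.ker D) + 4 := by
      have h3 := LinearMap.finrank_range_add_finrank_ker D
      have h4 : finrank F (LinearMap.range D) ≤ 4 := (Submodule.finrank_le _).trans (by
        simp [Module.finrank_prod, Module.finrank_self])
      rw [Module.finrank_fintype_fun_eq_card] at h3
      omega
    suffices s = 1 by
      rw [hs] at this
      exact mul_inv_eq_iff_eq_mul.1 (mul_inv_eq_one.1 this)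
    by_contra hs1
    rcases h.sq s hsR with s2 | s2
    · by_cases hsm : s = -1
      · have hzero : LinearMap.ker D = ⊥ := (Submodule.eq_bot_iff _).2 fun v hv => by
          have := hfix v hv
          rw [hsm, Units.val_neg, Units.val_one, Matrix.neg_mulVec, Matrix.one_mulVec] at this
          have e' : (2 : F) • v = 0 := by rw [two_smul]; nth_rw 1 [← this]; exact neg_add_cancel v
          exact (smul_eq_zero.1 e').resolve_left h2
        rw [hzero, finrank_bot] at hker
        omega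
      obtain ⟨y, hy, hsy⟩ := h.exists_anti hsR ⟨hs1, hsm⟩
      have e1 := (h.sg_neg_iff hsR hy).1 hsy
      obtain ⟨U, hU⟩ : ∃ U, U = (LinearMap.ker D).map (Matrix.toLin' (y : Matrix ι ι F)) := ⟨_, rfl⟩
      have hd : Disjoint (LinearMap.ker D) U := Submodule.disjoint_def.2 fun v hv hvU => by
        rw [hU] at hvU
        obtain ⟨u, hu, rfl⟩ := Submodule.mem_map.1 hvU
        have h3 := hfix _ hv
        rw [Matrix.toLin'_apply, Matrix.mulVec_mulVec, ← Units.val_mul, e1, Units.val_neg, Matrix.neg_mulVec,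
          Units.val_mul, ← Matrix.mulVec_mulVec, hfix u hu] at h3
        rw [Matrix.toLin'_apply]
        have e' : (2 : F) • ((y : Matrix ι ι F) *ᵥ u) = 0 := by rw [two_smul]; nth_rw 1 [← h3]; exact neg_add_cancel _
        exact (smul_eq_zero.1 e').resolve_left h2
      have hUr : finrank F U = finrank F (LinearMap.ker D) := by
        rw [hU]
        refine (Submodule.equivMapOfInjective _ ?_ _).finrank_eq.symm
        intro u v e'
        have := congrArg (fun z => ((y⁻¹ : GL ι F) : Matrix ι ι F) *ᵥ z) e'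
        simpa [Matrix.toLin'_apply, Matrix.mulVec_mulVec] using this
      have h5 := Submodule.finrank_add_finrank_le_of_disjoint hd
      rw [hUr, Module.finrank_fintype_fun_eq_card] at h5
      omega
    · have hzero : LinearMap.ker D = ⊥ := (Submodule.eq_bot_iff _).2 fun v hv => by
        have h3 := hfix v hv
        have h4 : (s : Matrix ι ι F) *ᵥ ((s : Matrix ι ι F) *ᵥ v) = -v := by
          rw [Matrix.mulVec_mulVec, h.sq_val s2, Matrix.neg_mulVec, Matrix.one_mulVec]
        rw [h3, h3] at h4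
        have e' : (2 : F) • v = 0 := by rw [two_smul]; nth_rw 1 [h4]; exact neg_add_cancel v
        exact (smul_eq_zero.1 e').resolve_left h2
      rw [hzero, finrank_bot] at hker
      omega
  obtain ⟨c, hc⟩ := h.irr (toG Q T : Matrix ι ι F) fun x hx => congrArg Units.val (hcomm x hx)
  have hTx : ∀ x, T.1 x = c • x := fun x => by rw [← toG_apply, hc, Matrix.smul_mulVec, Matrix.one_mulVec]
  have hc1 : c = 1 := by
    have e1 := hTx e
    rw [act e (by rw [polar_self, he, smul_zero]) hw] at e1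
    have e2 : (c - 1) • e = 0 := by rw [sub_smul, one_smul, ← e1, sub_self]
    exact sub_eq_zero.1 ((smul_eq_zero.1 e2).resolve_right he0)
  obtain ⟨x, hx⟩ : ∃ x, polar Q x e ≠ 0 := by
    by_contra hc'
    push Not at hc'
    exact he0 (hQ.2 e fun x => hc' x)
  have e1 := hTx x
  rw [hT, sO_apply, hc1, one_smul] at e1
  refine hwe (Submodule.mem_span_singleton.2 ⟨(polar Q x e)⁻¹ * (polar Q x w - Q w * polar Q x e), ?_⟩)
  have e2 : polar Q x e • w = (polar Q x w - Q w * polar Q x e) • e := by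
    have : x + (polar Q x w • e + (-polar Q x e) • w + (-(Q w * polar Q x e)) • e) = x + 0 := by
      rw [add_zero]; conv_rhs => rw [← e1]
      abel
    have h0 := add_left_cancel this
    rw [neg_smul, neg_smul] at h0
    rw [sub_smul, ← sub_eq_zero]
    rw [← neg_eq_zero.2 h0]
    abel
  rw [mul_smul, ← e2, inv_smul_smul₀ hx]

omit hO in
/-- The normaliser is maximal. -/
theorem maximal {p k : ℕ} (hp : p.Prime) (hpo : Odd p) (hF : Fintype.card F = p) (hn : 13 ≤ Fintype.card ι)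
    {R : Subgroup (GL ι F)} (hS : Cfsg.Geo.IsSymplecticTypeGroup 2 R)
    (hirr : Cfsg.Geo.ActsAbsolutelyIrreducibly (Cfsg.Geo.matrixSet R)) (hRD : R ≤ Cfsg.isometryGroup F ⇑Q)
    (hcard : Nat.card R = 2 ^ (1 + 2 * k)) (hz : Nat.card (Subgroup.center R) = 2) :
    Cfsg.Geo.IsMaximalIn (Cfsg.Geo.omegaGL ⇑Q) (Cfsg.Geo.subgroupNormalizer R ⊓ Cfsg.Geo.omegaGL ⇑Q) := by
  classical
  have h2 : (2 : F) ≠ 0 := Sp4.Five.two_ne (hF ▸ hpo)
  haveI : Nonempty ι := Fintype.card_pos_iff.1 (by omega)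
  obtain ⟨hR, hk⟩ := sr_of_card h2 hS hirr hz hcard
  obtain ⟨m, hkm⟩ : ∃ m, k = m + 3 := ⟨k - 3, by
    rcases Nat.lt_or_ge k 3 with h | h
    · interval_cases k <;> omega
    · omega⟩
  have hm : 1 ≤ m := by
    rcases Nat.eq_zero_or_pos m with rfl | h
    · rw [hk, hkm] at hn; norm_num at hn
    · exact h
  have hι : Fintype.card ι = 2 * 2 ^ (m + 2) := by rw [hk, hkm]; ring
  have h16 : 16 ≤ Fintype.card ι := by
    rw [hι]
    have := Nat.pow_le_pow_right (show 0 < 2 by norm_num) (show 3 ≤ m + 2 by omega)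
    omega
  haveI : Finite (R : Set (GL ι F)) := Subtype.finite
  have hmem : ∀ g, g ∈ Cfsg.Geo.subgroupNormalizer R ↔ Nm R g := fun g =>
    ⟨fun hg r hr => (Subgroup.mem_normalizer_iff.1 hg r).1 hr, fun hg => Subgroup.mem_normalizer_fintype hg⟩
  refine ⟨lt_of_le_of_ne inf_le_right fun e => ?_, fun K hK hKs => ?_⟩
  · obtain ⟨g, hg, hgn⟩ := exists_not_nm hQ hR (by omega)
    exact hgn ((hmem g).1 (e.ge hg).1)
  · have hOm : Om (pJ Q) = Cfsg.Geo.omegaGL ⇑Q := om_eq Q h2
    have hle : Cfsg.Geo.omegaGL ⇑Q ≤ Iso (pJ Q) := by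
      rw [iso_eq Q h2]; exact Subgroup.map_subtype_le _
    have hO : Over (pJ Q) R K :=
      ⟨hR, (iso_eq Q h2).symm ▸ hRD, hKs.trans hle, fun e => by
        have hu := pJ_unit Q hQ
        rw [e] at hu
        exact not_isUnit_zero hu, h16, sq_mem Q hQ h2 (by omega),
        fun g hg hgn => hK ⟨(hmem g).2 hgn, hOm ▸ hg⟩⟩
    rcases dichotomy hQ hO hp hpo hF hm hι with e | e
    · exact Or.inl (le_antisymm (fun g hg => ⟨(hmem g).2 (e g hg), hKs hg⟩) hK)
    · exact Or.inr (le_antisymm hKs e)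

end Cfsg.Agent.ClassicalMax.SympPlus
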