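import Cfsg.Agent.Classical.QuadClass
import Cfsg.Agent.ClassicalMax.SympMinus.Blocks

/-!
Coordinates making the form standard and an isometry of square minus one a complex structure, and the two complex
matrices of an element commuting with it.
-/

set_option autoImplicit false
set_option linter.unusedSectionVars false

namespace Cfsg.Agent.ClassicalMax.SympPlus

open Matrix Module SympType SympMinus Cfsg.Agent.Classical Cfsg.Agent.Classical.Quad

variable {ι : Type*} [Fintype ι] [DecidableEq ι] {F : Type*} [Field F] {d : ℕ}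

/-- The standard complex structure. -/
def jm (d : ℕ) (F : Type*) [Field F] : Matrix (Fin d ⊕ Fin d) (Fin d ⊕ Fin d) F := Matrix.fromBlocks 0 (-1) 1 0

/-- Coordinates adapted to a complex structure of isometries. -/
structure Crd (J : Matrix ι ι F) (a : GL ι F) (d : ℕ) where
  /-- the columns -/
  P : Matrix ι (Fin d ⊕ Fin d) F
  pp : Pᵀ * J * P = 1
  pi : P * (Pᵀ * J) = 1
  pa : (a : Matrix ι ι F) * P = P * jm d F

theorem exists_crd [Fintype F] (h2 : (2 : F) ≠ 0) {J : Matrix ι ι F} (hs : Jᵀ = J) (hN : IsUnit J) {a : GL ι F}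
    (ha : a ∈ Iso J) (a2 : a * a = -1) (hd : Fintype.card ι = 2 * d) : Nonempty (Crd J a d) := by
  classical
  obtain ⟨B, hB⟩ : ∃ B : LinearMap.BilinForm F (ι → F), B = Matrix.toBilin' J := ⟨_, rfl⟩
  have hval : ∀ u v, B u v = u ⬝ᵥ (J *ᵥ v) := fun u v => by rw [hB, Matrix.toBilin'_apply']
  have hS : B.IsSymm := ⟨fun u v => by
    rw [hval, hval, Matrix.dotProduct_mulVec, ← Matrix.mulVec_transpose, hs, dotProduct_comm]⟩
  have hBN : B.Nondegenerate := hB ▸ Matrix.nondegenerate_toBilin'_iff.2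
    (Matrix.nondegenerate_of_det_ne_zero ((Matrix.isUnit_iff_isUnit_det J).1 hN).ne_zero)
  obtain ⟨A, hA⟩ : ∃ A : (ι → F) → (ι → F), A = fun v => (a : Matrix ι ι F) *ᵥ v := ⟨_, rfl⟩
  have hAA : ∀ v, A (A v) = -v := fun v => by
    rw [hA]
    simp only [Matrix.mulVec_mulVec, ← Units.val_mul, a2, Units.val_neg, Units.val_one, Matrix.neg_mulVec,
      Matrix.one_mulVec]
  have hAB : ∀ u v, B (A u) (A v) = B u v := fun u v => by
    simp only [hval, hA]
    rw [Matrix.mulVec_mulVec, Matrix.dotProduct_mulVec, Matrix.vecMul_mulVec, ← Matrix.dotProduct_mulVec,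
      ← Matrix.mul_assoc, mem_iso.1 ha]
  have hskew : ∀ u v, B (A u) v = -B u (A v) := fun u v => by
    have := hAB u (A v)
    rw [hAA, map_neg] at this
    linear_combination -this
  have hdiag : ∀ u, B u (A u) = 0 := fun u => by
    have := hskew u u
    rw [hS.eq (A u) u] at this
    exact (mul_eq_zero.1 (show (2 : F) * B u (A u) = 0 by linear_combination this)).resolve_left h2
  obtain ⟨two, htwo⟩ : ∃ two : ∀ k : ℕ, (Fin k → ι → F) → Fin (k + k) → ι → F, ∀ k v, two k v = Fin.append v (A ∘ v) :=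
    ⟨fun k v => Fin.append v (A ∘ v), fun _ _ => rfl⟩
  have hfam : ∀ k, k ≤ d → ∃ v : Fin k → ι → F, (∀ i j, B (v i) (v j) = if i = j then 1 else 0) ∧
      ∀ i j, B (v i) (A (v j)) = 0 := by
    intro k
    induction k with
    | zero => exact fun _ => ⟨Fin.elim0, fun i => i.elim0, fun i => i.elim0⟩
    | succ k ih =>
      intro hk
      obtain ⟨v, hv, hva⟩ := ih (by omega)
      have hw : ∀ i, B (Fin.append v (A ∘ v) i) (Fin.append v (A ∘ v) i) = 1 := by
        intro i
        refine Fin.addCases (fun i => ?_) (fun i => ?_) i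
        · rw [Fin.append_left, hv, if_pos rfl]
        · rw [Fin.append_right, Function.comp_apply, hAB, hv, if_pos rfl]
      have ho : ∀ i i', i ≠ i' → B (Fin.append v (A ∘ v) i) (Fin.append v (A ∘ v) i') = 0 := by
        intro i i'
        refine Fin.addCases (fun i => ?_) (fun i => ?_) i <;> refine Fin.addCases (fun i' => ?_) (fun i' => ?_) i' <;>
          intro hne <;> simp only [Fin.append_left, Fin.append_right, Function.comp_apply]
        · rw [hv, if_neg fun e => hne (by rw [e])]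
        · exact hva i i'
        · rw [hskew, hva, neg_zero]
        · rw [hAB, hv, if_neg fun e => hne (by rw [e])]
      obtain ⟨u, hu, huu⟩ := exists_orth_next h2 hS hBN ho (fun i => by rw [hw]; exact one_ne_zero)
        (by rw [Module.finrank_fintype_fun_eq_card, hd]; omega)
      have hu1 : ∀ i, B (v i) u = 0 := fun i => by simpa using hu (Fin.castAdd k i)
      have hu2 : ∀ i, B (A (v i)) u = 0 := fun i => by
        have := hu (Fin.natAdd k i)
        rwa [Fin.append_right] at this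
      obtain ⟨x, y, hxy⟩ := exists_binary_one h2 huu huu
      obtain ⟨z, hz⟩ : ∃ z, z = x • u + y • A u := ⟨_, rfl⟩
      have hz1 : ∀ i, B (v i) z = 0 := fun i => by
        have := hskew (v i) u
        rw [hu2 i] at this
        rw [hz, map_add, map_smul, map_smul, hu1, show B (v i) (A u) = 0 by linear_combination this, smul_zero,
          smul_zero, add_zero]
      have hz2 : ∀ i, B (A (v i)) z = 0 := fun i => by
        rw [hz, map_add, map_smul, map_smul, hu2, hAB, hu1, smul_zero, smul_zero, add_zero]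
      have hz3 : ∀ i, B (v i) (A z) = 0 := fun i => by
        have := hskew (v i) z
        rw [hz2 i] at this
        linear_combination this
      have hzz : B z z = 1 := by
        rw [hz]
        simp only [map_add, map_smul, LinearMap.add_apply, LinearMap.smul_apply, smul_eq_mul, hAB, hdiag,
          hS.eq (A u) u, mul_zero, add_zero, zero_add]
        linear_combination hxy
      refine ⟨Fin.snoc v z, fun i i' => ?_, fun i i' => ?_⟩ <;>
        refine Fin.lastCases ?_ (fun i => ?_) i <;> refine Fin.lastCases ?_ (fun i' => ?_) i'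
      · simp [hzz]
      · simp [hS.eq z (v i'), hz1, Fin.ext_iff, (i'.isLt).ne']
      · simp [hz1, Fin.ext_iff, (i.isLt).ne]
      · simp [hv, Fin.ext_iff]
      · simp [hdiag]
      · simp only [Fin.snoc_last, Fin.snoc_castSucc]
        rw [hS.eq z, hz2]
      · simp only [Fin.snoc_last, Fin.snoc_castSucc]
        exact hz3 i
      · simp [hva]
  obtain ⟨v, hv, hva⟩ := hfam d le_rfl
  obtain ⟨P, hP⟩ : ∃ P : Matrix ι (Fin d ⊕ Fin d) F, P = Matrix.of fun x y => Sum.elim v (A ∘ v) y x := ⟨_, rfl⟩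
  have hcol : ∀ y, P *ᵥ Pi.single y 1 = Sum.elim v (A ∘ v) y := fun y => by
    rw [Matrix.mulVec_single_one, hP]; rfl
  have hent : ∀ y y', (Pᵀ * J * P) y y' = B (Sum.elim v (A ∘ v) y) (Sum.elim v (A ∘ v) y') := fun y y' => by
    rw [hval, ← hcol, ← hcol, Matrix.mulVec_mulVec, Matrix.dotProduct_mulVec, Matrix.vecMul_mulVec,
      ← Matrix.mul_assoc, Matrix.single_one_vecMul, dotProduct_single_one]; rfl
  have hpp : Pᵀ * J * P = 1 := by
    ext y y'
    rw [hent, Matrix.one_apply]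
    rcases y with y | y <;> rcases y' with y' | y' <;> simp [hv, hva, hskew, hAB, hAA]
  refine ⟨⟨P, hpp, ?_, ?_⟩⟩
  · exact (Matrix.mul_eq_one_comm_of_equiv (Fintype.equivOfCardEq (α := Fin d ⊕ Fin d) (β := ι) (by
      rw [Fintype.card_sum, Fintype.card_fin, hd]; omega))).1 hpp
  · refine Matrix.ext_iff_mulVec.2 fun w => ?_
    suffices Matrix.toLin' ((a : Matrix ι ι F) * P) = Matrix.toLin' (P * jm d F) by
      simpa using LinearMap.congr_fun this w
    refine (Pi.basisFun F (Fin d ⊕ Fin d)).ext fun y => ?_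
    rw [Pi.basisFun_apply, Matrix.toLin'_apply, Matrix.toLin'_apply, ← Matrix.mulVec_mulVec, ← Matrix.mulVec_mulVec,
      hcol]
    rcases y with y | y
    · rw [show jm d F *ᵥ Pi.single (Sum.inl y) 1 = Pi.single (Sum.inr y) 1 by
        ext (i | i) <;> simp [jm, Matrix.mulVec_single_one, Matrix.one_apply, Pi.single_apply, eq_comm], hcol, hA]
      rfl
    · rw [show jm d F *ᵥ Pi.single (Sum.inr y) 1 = -Pi.single (Sum.inl y) 1 by
        ext (i | i) <;> simp [jm, Matrix.mulVec_single_one, Matrix.one_apply, Pi.single_apply, eq_comm],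
        Matrix.mulVec_neg, hcol]
      simp only [Sum.elim_inr, Sum.elim_inl, Function.comp_apply]
      have := hAA (v y)
      rw [hA] at this ⊢
      exact this

namespace Crd

variable {J : Matrix ι ι F} {a : GL ι F} (c : Crd J a d) {E : Type*} [Field E] (τ : F →+* E) (j : E)

/-- The blocks in these coordinates. -/
def bl (g : Matrix ι ι F) : Matrix (Fin d ⊕ Fin d) (Fin d ⊕ Fin d) F := c.Pᵀ * J * g * c.P

theorem bl_mul (g h : Matrix ι ι F) : c.bl g * c.bl h = c.bl (g * h) := by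
  simp only [bl, Matrix.mul_assoc]
  rw [← Matrix.mul_assoc c.P, ← Matrix.mul_assoc (c.P * c.Pᵀ) J, Matrix.mul_assoc c.P c.Pᵀ J, c.pi, Matrix.one_mul]

theorem bl_one : c.bl 1 = 1 := by rw [bl, Matrix.mul_one, c.pp]

theorem bl_add (g h : Matrix ι ι F) : c.bl (g + h) = c.bl g + c.bl h := by simp only [bl, Matrix.mul_add, Matrix.add_mul]

theorem bl_smul (k : F) (g : Matrix ι ι F) : c.bl (k • g) = k • c.bl g := by
  simp only [bl, Matrix.mul_smul, Matrix.smul_mul]

theorem bl_a : c.bl (a : Matrix ι ι F) = jm d F := by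
  rw [bl, Matrix.mul_assoc _ (a : Matrix ι ι F), c.pa, ← Matrix.mul_assoc, c.pp, Matrix.one_mul]

theorem bl_inj {g h : Matrix ι ι F} (e : c.bl g = c.bl h) : g = h := by
  have := congrArg (fun z => c.P * z * (c.Pᵀ * J)) e
  simp only [bl, ← Matrix.mul_assoc] at this
  simpa [Matrix.mul_assoc, c.pi, ← Matrix.mul_assoc c.P c.Pᵀ J] using this

/-- Commuting with the complex structure. -/
theorem bl_shape {g : Matrix ι ι F} (hg : g * a = a * g) :
    (c.bl g).toBlocks₂₂ = (c.bl g).toBlocks₁₁ ∧ (c.bl g).toBlocks₁₂ = -(c.bl g).toBlocks₂₁ := by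
  have e : c.bl g * jm d F = jm d F * c.bl g := by rw [← c.bl_a, c.bl_mul, c.bl_mul, hg]
  rw [← Matrix.fromBlocks_toBlocks (c.bl g), jm, Matrix.fromBlocks_multiply, Matrix.fromBlocks_multiply,
    Matrix.fromBlocks_inj] at e
  simp only [Matrix.mul_neg, Matrix.mul_one, Matrix.mul_zero, Matrix.one_mul, Matrix.neg_mul, Matrix.zero_mul,
    zero_add, add_zero] at e
  exact ⟨e.2.2.1, e.1⟩

/-- The complex matrix. -/
def psM (g : Matrix ι ι F) : Matrix (Fin d) (Fin d) E :=
  (c.bl g).toBlocks₁₁.map τ + j • (c.bl g).toBlocks₂₁.map τ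

/-- Its conjugate. -/
def psB (g : Matrix ι ι F) : Matrix (Fin d) (Fin d) E :=
  (c.bl g).toBlocks₁₁.map τ - j • (c.bl g).toBlocks₂₁.map τ

theorem psB_eq (g : Matrix ι ι F) : c.psB τ j g = c.psM τ (-j) g := by rw [psB, psM, neg_smul, sub_eq_add_neg]

theorem psM_one : c.psM τ j 1 = 1 := by
  rw [psM, bl_one, ← Matrix.fromBlocks_one, Matrix.toBlocks_fromBlocks₁₁, Matrix.toBlocks_fromBlocks₂₁,
    Matrix.map_one τ (map_zero τ) (map_one τ), Matrix.map_zero τ (map_zero τ), smul_zero, add_zero]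

theorem psM_add (g h : Matrix ι ι F) : c.psM τ j (g + h) = c.psM τ j g + c.psM τ j h := by
  rw [psM, psM, psM, bl_add]
  ext i k
  simp [Matrix.toBlocks₁₁, Matrix.toBlocks₂₁]
  ring

theorem psM_smul (k : F) (g : Matrix ι ι F) : c.psM τ j (k • g) = τ k • c.psM τ j g := by
  rw [psM, psM, bl_smul]
  ext i l
  simp [Matrix.toBlocks₁₁, Matrix.toBlocks₂₁]
  ring

theorem psM_neg (g : Matrix ι ι F) : c.psM τ j (-g) = -c.psM τ j g := by
  rw [← neg_one_smul F g, psM_smul, map_neg, map_one, neg_one_smul]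

theorem psM_a : c.psM τ j (a : Matrix ι ι F) = j • 1 := by
  rw [psM, bl_a, jm, Matrix.toBlocks_fromBlocks₁₁, Matrix.toBlocks_fromBlocks₂₁,
    Matrix.map_one τ (map_zero τ) (map_one τ), Matrix.map_zero τ (map_zero τ), zero_add]

theorem psM_mul (hj : j * j = -1) {g : Matrix ι ι F} (h : Matrix ι ι F) (hg : g * a = a * g) :
    c.psM τ j (g * h) = c.psM τ j g * c.psM τ j h := by
  obtain ⟨e1, e2⟩ := c.bl_shape hg
  rw [psM, psM, psM, ← bl_mul]
  nth_rw 1 2 [← Matrix.fromBlocks_toBlocks (c.bl g), ← Matrix.fromBlocks_toBlocks (c.bl h)]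
  rw [Matrix.fromBlocks_multiply, Matrix.toBlocks_fromBlocks₁₁, Matrix.toBlocks_fromBlocks₂₁, e1, e2]
  simp only [Matrix.map_add τ (map_add τ), Matrix.map_mul, Matrix.neg_mul, Matrix.mul_add, Matrix.add_mul,
    Matrix.smul_mul, Matrix.mul_smul, smul_smul, hj, neg_smul, one_smul, smul_add]
  rw [show ∀ z : Matrix (Fin d) (Fin d) F, (-z).map τ = -z.map τ from fun z => by ext; simp, Matrix.map_mul]
  abel

theorem psB_mul (hj : j * j = -1) {g : Matrix ι ι F} (h : Matrix ι ι F) (hg : g * a = a * g) :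
    c.psB τ j (g * h) = c.psB τ j g * c.psB τ j h := by
  rw [psB_eq, psB_eq, psB_eq, c.psM_mul τ (-j) (by rw [neg_mul_neg, hj]) h hg]

theorem ext_ps (h2 : (2 : E) ≠ 0) (hj : j * j = -1) {g h : Matrix ι ι F} (hg : g * a = a * g) (hh : h * a = a * h)
    (e1 : c.psM τ j g = c.psM τ j h) (e2 : c.psB τ j g = c.psB τ j h) : g = h := by
  have hj0 : j ≠ 0 := fun e => by simp [e] at hj
  have inj : Function.Injective fun z : Matrix (Fin d) (Fin d) F => z.map τ := Matrix.map_injective τ.injective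
  have s := congrArg₂ (· + ·) e1 e2
  have t := congrArg₂ (· - ·) e1 e2
  simp only [psM, psB, add_add_sub_cancel, ← two_smul E] at s
  simp only [psM, psB, add_sub_sub_cancel, ← two_smul E, smul_smul] at t
  have hX := inj (smul_right_injective _ h2 s)
  have hY := inj (smul_right_injective _ (mul_ne_zero h2 hj0) t)
  obtain ⟨g1, g2⟩ := c.bl_shape hg
  obtain ⟨k1, k2⟩ := c.bl_shape hh
  refine c.bl_inj ?_
  rw [← Matrix.fromBlocks_toBlocks (c.bl g), ← Matrix.fromBlocks_toBlocks (c.bl h), g1, g2, k1, k2, hX, hY]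

/-- Prescribed parts. -/
theorem exists_pre (X Y : Matrix (Fin d) (Fin d) F) : ∃ g : Matrix ι ι F, g * a = a * g ∧
    c.psM τ j g = X.map τ + j • Y.map τ ∧ c.psB τ j g = X.map τ - j • Y.map τ := by
  obtain ⟨g, hg⟩ : ∃ g, g = c.P * Matrix.fromBlocks X (-Y) Y X * (c.Pᵀ * J) := ⟨_, rfl⟩
  have hb : c.bl g = Matrix.fromBlocks X (-Y) Y X := by
    calc c.bl g = c.Pᵀ * J * c.P * Matrix.fromBlocks X (-Y) Y X * (c.Pᵀ * J * c.P) := by
          rw [bl, hg]; simp only [Matrix.mul_assoc]
      _ = _ := by rw [c.pp, Matrix.one_mul, Matrix.mul_one]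
  refine ⟨g, c.bl_inj ?_, ?_, ?_⟩
  · rw [← bl_mul, ← bl_mul, bl_a, hb, jm, Matrix.fromBlocks_multiply, Matrix.fromBlocks_multiply]
    simp
  · rw [psM, hb, Matrix.toBlocks_fromBlocks₁₁, Matrix.toBlocks_fromBlocks₂₁]
  · rw [psB, hb, Matrix.toBlocks_fromBlocks₁₁, Matrix.toBlocks_fromBlocks₂₁]

/-- The isometry condition. -/
theorem iso_iff (h2 : (2 : E) ≠ 0) (hj : j * j = -1) {g : GL ι F} (hg : (g : Matrix ι ι F) * a = a * g) :
    g ∈ Iso J ↔ (c.psB τ j (g : Matrix ι ι F))ᵀ * c.psM τ j (g : Matrix ι ι F) = 1 := by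
  have hPJ : (c.Pᵀ * J)ᵀ * (c.Pᵀ * J) = J := by
    have e := congrArg (fun z => (c.Pᵀ * J)ᵀ * z * (c.Pᵀ * J)) c.pp
    simp only [Matrix.mul_one] at e
    rw [← e]
    calc (c.Pᵀ * J)ᵀ * (c.Pᵀ * J * c.P) * (c.Pᵀ * J)
        = (c.P * (c.Pᵀ * J))ᵀ * J * (c.P * (c.Pᵀ * J)) := by
          simp only [Matrix.transpose_mul, Matrix.mul_assoc]
      _ = J := by rw [c.pi, Matrix.transpose_one, Matrix.one_mul, Matrix.mul_one]
  have hb : ((c.bl (g : Matrix ι ι F))ᵀ * c.bl (g : Matrix ι ι F) = 1) ↔ g ∈ Iso J := by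
    have e : (c.bl (g : Matrix ι ι F))ᵀ * c.bl (g : Matrix ι ι F) =
        c.Pᵀ * ((g : Matrix ι ι F)ᵀ * J * (g : Matrix ι ι F)) * c.P := by
      calc _ = c.Pᵀ * ((g : Matrix ι ι F)ᵀ * ((c.Pᵀ * J)ᵀ * (c.Pᵀ * J)) * (g : Matrix ι ι F)) * c.P := by
            simp only [bl, Matrix.transpose_mul, Matrix.mul_assoc]
        _ = _ := by rw [hPJ]
    rw [e, mem_iso]
    constructor
    · intro e'
      have := congrArg (fun z => (c.Pᵀ * J)ᵀ * z * (c.Pᵀ * J)) e'
      simp only [Matrix.mul_one] at this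
      rw [hPJ] at this
      refine Eq.trans ?_ this
      calc (g : Matrix ι ι F)ᵀ * J * (g : Matrix ι ι F) = (c.P * (c.Pᵀ * J))ᵀ * ((g : Matrix ι ι F)ᵀ * J * (g : Matrix ι ι F)) * (c.P * (c.Pᵀ * J)) := by
            rw [c.pi, Matrix.transpose_one, Matrix.one_mul, Matrix.mul_one]
        _ = _ := by simp only [Matrix.transpose_mul, Matrix.mul_assoc]
    · intro e'; rw [e']; exact c.pp
  obtain ⟨g1, g2⟩ := c.bl_shape hg
  rw [← hb]
  obtain ⟨X, hX⟩ : ∃ X, X = (c.bl (g : Matrix ι ι F)).toBlocks₁₁ := ⟨_, rfl⟩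
  obtain ⟨Y, hY⟩ : ∃ Y, Y = (c.bl (g : Matrix ι ι F)).toBlocks₂₁ := ⟨_, rfl⟩
  obtain ⟨S, hS⟩ : ∃ S, S = Xᵀ * X + Yᵀ * Y := ⟨_, rfl⟩
  obtain ⟨T, hT⟩ : ∃ T, T = Xᵀ * Y - Yᵀ * X := ⟨_, rfl⟩
  have e : (c.bl (g : Matrix ι ι F))ᵀ * c.bl (g : Matrix ι ι F) = Matrix.fromBlocks S (-T) T S := by
    rw [← Matrix.fromBlocks_toBlocks (c.bl (g : Matrix ι ι F)), g1, g2, ← hX, ← hY, Matrix.fromBlocks_transpose,
      Matrix.fromBlocks_multiply, hS, hT]
    congr 1 <;> simp only [Matrix.transpose_neg, Matrix.neg_mul, Matrix.mul_neg, neg_neg, neg_sub] <;> abel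
  have e' : (c.psB τ j (g : Matrix ι ι F))ᵀ * c.psM τ j (g : Matrix ι ι F) = S.map τ + j • T.map τ := by
    rw [psB, psM, ← hX, ← hY, hS, hT, Matrix.transpose_sub, Matrix.transpose_smul]
    simp only [Matrix.map_add τ (map_add τ), Matrix.map_sub τ (map_sub τ), Matrix.map_mul, ← Matrix.transpose_map,
      Matrix.sub_mul, Matrix.mul_add, Matrix.smul_mul, Matrix.mul_smul, smul_smul, hj, smul_sub, neg_smul, one_smul]
    abel
  rw [e, e', ← Matrix.fromBlocks_one, Matrix.fromBlocks_inj]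
  constructor
  · rintro ⟨rfl, -, rfl, -⟩
    rw [Matrix.map_one τ (map_zero τ) (map_one τ), Matrix.map_zero τ (map_zero τ), smul_zero, add_zero]
  · intro h1
    have h1' := congrArg Matrix.transpose h1
    have st : (S.map τ)ᵀ = S.map τ := by
      rw [← Matrix.transpose_map, hS, Matrix.transpose_add, Matrix.transpose_mul, Matrix.transpose_mul,
        Matrix.transpose_transpose, Matrix.transpose_transpose]
    have tt : (T.map τ)ᵀ = -T.map τ := by
      rw [← Matrix.transpose_map, hT, Matrix.transpose_sub, Matrix.transpose_mul, Matrix.transpose_mul,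
        Matrix.transpose_transpose, Matrix.transpose_transpose, ← neg_sub]
      ext i k; simp
    rw [Matrix.transpose_add, Matrix.transpose_smul, Matrix.transpose_one, st, tt, smul_neg] at h1'
    have hj0 : j ≠ 0 := fun e => by simp [e] at hj
    have inj : Function.Injective fun z : Matrix (Fin d) (Fin d) F => z.map τ := Matrix.map_injective τ.injective
    have hS1 : S = 1 := inj (smul_right_injective _ h2 (show (2 : E) • S.map τ = (2 : E) • (1 : Matrix (Fin d) (Fin d) F).map τ by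
      rw [Matrix.map_one τ (map_zero τ) (map_one τ), two_smul, two_smul]
      calc S.map τ + S.map τ = (S.map τ + j • T.map τ) + (S.map τ + -(j • T.map τ)) := by abel
        _ = _ := by rw [h1, h1']))
    have hT0 : T = 0 := inj (smul_right_injective _ hj0 (show j • T.map τ = j • (0 : Matrix (Fin d) (Fin d) F).map τ by
      rw [hS1, Matrix.map_one τ (map_zero τ) (map_one τ)] at h1
      rw [Matrix.map_zero τ (map_zero τ), smul_zero]
      exact add_left_cancel (h1.trans (add_zero _).symm)))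
    exact ⟨hS1, by rw [hT0, neg_zero], hT0, hS1⟩

end Crd

end Cfsg.Agent.ClassicalMax.SympPlus
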