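import Cfsg.Agent.ClassicalMax.SympPlus.Rec
import Mathlib.GroupTheory.Transfer

/-!
The recorded elements are those of the two-group: modulo sign they have a self-normalising elementary abelian Sylow
subgroup, whose nonsingular elements invert the normal complement.
-/

set_option autoImplicit false
set_option linter.unusedSectionVars false

namespace Cfsg.Agent.ClassicalMax.SympPlus

open Matrix SympType SympMinus

/-- A self-normalising elementary abelian two-subgroup with three self-centralised elements `u, v, u v` is all. -/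
theorem eq_top_of_selfnorm {H : Type*} [Group H] [Finite H] (A : Subgroup H) (hA2 : ∀ a ∈ A, a * a = 1)
    (hN : ∀ g, (∀ a ∈ A, g * a * g⁻¹ ∈ A) → g ∈ A) {u v : H} (hu : u ∈ A) (hv : v ∈ A)
    (cu : ∀ g, g * u = u * g → g ∈ A) (cv : ∀ g, g * v = v * g → g ∈ A)
    (cuv : ∀ g, g * (u * v) = u * v * g → g ∈ A) : A = ⊤ := by
  haveI : Fact (Nat.Prime 2) := ⟨Nat.prime_two⟩
  have hcomm : ∀ a ∈ A, ∀ b ∈ A, a * b = b * a := fun a ha b hb => by
    rw [← inv_eq_of_mul_eq_one_right (hA2 _ (mul_mem ha hb)), _root_.mul_inv_rev,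
      inv_eq_of_mul_eq_one_right (hA2 a ha), inv_eq_of_mul_eq_one_right (hA2 b hb)]
  have hAp : IsPGroup 2 A := fun a => ⟨1, Subtype.ext (by
    rw [SubgroupClass.coe_pow, pow_one, pow_two, Subgroup.coe_one]; exact hA2 _ a.2)⟩
  obtain ⟨P, hP⟩ := hAp.exists_le_sylow
  have hPA : (P : Subgroup H) = A := by
    refine le_antisymm ?_ hP
    by_contra hne
    have hlt : A.subgroupOf (P : Subgroup H) < ⊤ :=
      lt_top_iff_ne_top.2 fun e => hne (Subgroup.subgroupOf_eq_top.1 e)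
    haveI : Group.IsNilpotent (P : Subgroup H) := P.isPGroup'.isNilpotent
    obtain ⟨g, hg, hgA⟩ := SetLike.exists_of_lt (normalizerCondition_of_isNilpotent _ hlt)
    refine hgA (Subgroup.mem_subgroupOf.2 (hN _ fun a ha => ?_))
    simpa [Subgroup.mem_subgroupOf] using
      (Subgroup.mem_normalizer_iff.1 hg ⟨a, hP ha⟩).1 (Subgroup.mem_subgroupOf.2 ha)
  have hnz : Subgroup.normalizer ((P : Subgroup H) : Set H) ≤ Subgroup.centralizer ((P : Subgroup H) : Set H) := by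
    intro g hg
    rw [hPA] at hg ⊢
    rw [Subgroup.mem_centralizer_iff]
    intro a ha
    exact hcomm a ha g (hN g fun b hb => (Subgroup.mem_normalizer_iff.1 hg b).1 hb)
  obtain ⟨N, hNK, hNn⟩ : ∃ N : Subgroup H, Subgroup.IsComplement' N A ∧ N.Normal :=
    ⟨(MonoidHom.transferSylow P hnz).ker, hPA ▸ MonoidHom.ker_transferSylow_isComplement' P hnz, inferInstance⟩
  have hodd : Odd (Nat.card N) := by
    rw [← hNK.index_eq_card, ← Nat.not_even_iff_odd, even_iff_two_dvd, ← hPA]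
    exact P.not_dvd_index
  have hdis : ∀ g ∈ N, g ∈ A → g = 1 := fun g h1 h2 => Subgroup.disjoint_def.1 hNK.disjoint h1 h2
  have inv : ∀ w ∈ A, (∀ g, g * w = w * g → g ∈ A) → ∀ n ∈ N, w * n * w = n⁻¹ := by
    intro w hw cw n hn
    have w2 := hA2 w hw
    have wi : w⁻¹ = w := inv_eq_of_mul_eq_one_right w2
    obtain ⟨f, hf⟩ : ∃ f : N → N, ∀ m : N, (f m : H) = (m : H)⁻¹ * (w * m * w) :=
      ⟨fun m => ⟨(m : H)⁻¹ * (w * m * w), mul_mem (inv_mem m.2) (by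
        have := hNn.conj_mem _ m.2 w
        rwa [wi] at this)⟩, fun m => rfl⟩
    have finj : Function.Injective f := by
      intro m m' e
      have e1 := congrArg Subtype.val e
      rw [hf, hf] at e1
      have e2 : (m' : H) * (m : H)⁻¹ * w = w * ((m' : H) * (m : H)⁻¹) := by
        calc (m' : H) * (m : H)⁻¹ * w
            = (m' : H) * ((m : H)⁻¹ * (w * m * w)) * w⁻¹ * (m : H)⁻¹ * w⁻¹ * w := by group
          _ = (m' : H) * ((m' : H)⁻¹ * (w * m' * w)) * w⁻¹ * (m : H)⁻¹ * w⁻¹ * w := by rw [e1]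
          _ = _ := by group
      exact Subtype.ext (mul_inv_eq_one.1 (hdis _ (mul_mem m'.2 (inv_mem m.2)) (cw _ e2))).symm
    obtain ⟨m, hm⟩ := (Finite.injective_iff_surjective.1 finj) ⟨n, hn⟩
    have hn' : n = (m : H)⁻¹ * (w * m * w) := by rw [← hf, hm]
    rw [hn', _root_.mul_inv_rev, _root_.mul_inv_rev, _root_.mul_inv_rev, inv_inv, wi,
      show w * ((m : H)⁻¹ * (w * m * w)) * w = w * (m : H)⁻¹ * w * m * (w * w) by group, w2, mul_one]
    simp only [mul_assoc]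
  rw [eq_top_iff]
  intro g _
  obtain ⟨⟨n, a⟩, rfl⟩ := hNK.2 g
  suffices (n : H) = 1 by simp only [this, one_mul]; exact a.2
  have e1 := inv _ (mul_mem hu hv) cuv n n.2
  have e2 : u * v * (n : H) * (u * v) = n := by
    calc u * v * (n : H) * (u * v) = u * (v * n * v) * u := by
          rw [hcomm u hu v hv]
          nth_rw 1 [← hcomm u hu v hv]
          simp only [mul_assoc]
      _ = _ := by rw [inv v hv cv n n.2, inv u hu cu _ (inv_mem n.2), inv_inv]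
  rw [e2] at e1
  have h2 : orderOf (n : H) ∣ 2 := orderOf_dvd_of_pow_eq_one (by rw [pow_two]; nth_rw 1 [e1]; exact inv_mul_cancel _)
  have h3 : orderOf (n : H) ∣ Nat.card N := by
    rw [Subgroup.orderOf_coe n]; exact orderOf_dvd_natCard _
  rcases (Nat.dvd_prime Nat.prime_two).1 h2 with e | e
  · exact orderOf_eq_one_iff.1 e
  · exact absurd (e ▸ h3) (by rw [← even_iff_two_dvd]; exact Nat.not_even_iff_odd.2 hodd)

variable {ι : Type*} [Fintype ι] [DecidableEq ι] {E : Type*} [Field E] [Finite E]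

variable {J : Matrix ι ι E} {R K : Subgroup (GL ι E)} {x y : GL ι E} (hO : Over J R K) (hF : Frame2 R x y)
  (hN : Neg R K)
include hO hF hN

/-- A recorded element normalising the two-group on the negated space lies in it. -/
theorem mem_of_norm {β : GL ι E} (hβ : β ∈ Lam hF K) (hβn : ∀ u ∈ R, Cxy x y u → β * u * β⁻¹ ∈ R) : β ∈ R := by
  classical
  have h := hO.sr
  have hn := hO.dim
  have P := hF.pair hO
  have iff := fun {u : GL ι E} => cxy_iff hO hF (u := u)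
  have img : ∀ {u : GL ι E}, Cxy x y u → Cxy x y (β * u * β⁻¹) := fun hu => (hβ.1.mul hu).mul hβ.1.inv
  have pre : ∀ a ∈ R, Cxy x y a → ∃ a₀ ∈ R, Cxy x y a₀ ∧ β * a₀ * β⁻¹ = a := by
    intro a ha hac
    obtain ⟨f, hf⟩ : ∃ f : {u : GL ι E // u ∈ R ∧ Cxy x y u} → {u : GL ι E // u ∈ R ∧ Cxy x y u},
        ∀ u, (f u : GL ι E) = β * u * β⁻¹ :=
      ⟨fun u => ⟨β * u * β⁻¹, hβn _ u.2.1 u.2.2, img u.2.2⟩, fun u => rfl⟩
    obtain ⟨a₀, e⟩ := ((Finite.injective_iff_surjective (f := f)).1 fun u v e => by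
      have := congrArg Subtype.val e
      rw [hf, hf] at this
      exact Subtype.ext (mul_left_cancel (mul_right_cancel this))) ⟨a, ha, hac⟩
    exact ⟨a₀, a₀.2.1, a₀.2.2, by rw [← hf, e]⟩
  have close : ∀ a ∈ R, Cxy x y a → a * a = -1 → β * a * β⁻¹ = a ∨ β * a * β⁻¹ = -a → β ∈ R := by
    intro a ha hac a2 e
    refine mem_of_sign hO hF hN hβ ha hac a2 ?_
    rcases e with e | e
    · exact Or.inl (mul_inv_eq_iff_eq_mul.1 e)
    · exact Or.inr (by rw [mul_inv_eq_iff_eq_mul.1 e, neg_mul])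
  -- the element carrying lifts of two to lifts of their images
  have mk : ∀ a ∈ R, ∀ c ∈ R, Cxy x y a → Cxy x y c → a * a = -1 → c * c = -1 →
      tl (β * a * β⁻¹) * tl (β * c * β⁻¹) * (tl c)⁻¹ * (tl a)⁻¹ ∈ Lam hF K := by
    intro a ha c hc hac hcc a2 c2
    obtain ⟨T, hT⟩ : ∃ T, T = lp h a c := ⟨_, rfl⟩
    have tfix : ∀ z, a * z = z * a → c * z = z * c → T * z = z * T := fun z e1 e2 => by
      refine mul_inv_eq_iff_eq_mul.1 ?_
      rw [hT, hO.lp_conj, h.tl_fix c2 e2, h.tl_fix a2 e1]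
    have Tx : T * x = x * T := tfix x hac.1 hcc.1
    have Ty : T * y = y * T := tfix y hac.2 hcc.2
    have hTK : T ∈ K := hT ▸ hO.lp_mem ha hc a2 c2
    have hm : T * β⁻¹ * T⁻¹ ∈ Lam hF K := by
      obtain ⟨hc', b, hb, H⟩ := inv_mem hβ
      exact ⟨(Cxy.mul ⟨Tx, Ty⟩ hc').mul (Cxy.inv ⟨Tx, Ty⟩), T * b * T⁻¹,
        mul_mem (mul_mem hTK hb) (inv_mem hTK), H.conj Tx⟩
    convert mul_mem hβ hm using 1
    rw [hT, lp, sc_conj', show β * (tl a * tl c * β⁻¹ * (tl a * tl c)⁻¹) =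
      β * tl a * β⁻¹ * (β * tl c * β⁻¹) * (tl c)⁻¹ * (tl a)⁻¹ by group, h.tl_conj β a2, h.tl_conj β c2]
  have hfx : ∀ {w s : GL ι E}, s * s = -1 → sg w s = 1 → (tl s)⁻¹ * w * tl s = w ∧ tl s * w * (tl s)⁻¹ = w :=
    fun {w s} s2 e => by
      have e' := h.tl_fix s2 (sg_eq_one_iff.1 e).symm
      refine ⟨?_, e'⟩
      conv_lhs => rw [← e']
      group
  have conjE : ∀ a c r : GL ι E,
      tl (β * a * β⁻¹) * tl (β * c * β⁻¹) * (tl c)⁻¹ * (tl a)⁻¹ * r *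
        (tl (β * a * β⁻¹) * tl (β * c * β⁻¹) * (tl c)⁻¹ * (tl a)⁻¹)⁻¹ =
      tl (β * a * β⁻¹) * (tl (β * c * β⁻¹) * ((tl c)⁻¹ * ((tl a)⁻¹ * r * tl a) * tl c) * (tl (β * c * β⁻¹))⁻¹) *
        (tl (β * a * β⁻¹))⁻¹ := fun a c r => by group
  have sgnR : ∀ {e r : GL ι E}, e ∈ R → r ∈ R → e * r * e⁻¹ = r ∨ e * r * e⁻¹ = -r := fun {e r} he hr => by
    rcases h.comm e he r hr with e' | e'
    · exact Or.inl (mul_inv_eq_iff_eq_mul.2 e')
    · exact Or.inr (by rw [mul_inv_eq_iff_eq_mul, neg_mul, e'])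
  by_cases hcase : ∃ a ∈ R, Cxy x y a ∧ a * a = -1 ∧ sg a (β * a * β⁻¹) = 1
  · obtain ⟨a, ha, hac, a2, haa⟩ := hcase
    obtain ⟨a₀, ha₀, ha₀c, ea₀⟩ := pre a ha hac
    obtain ⟨a', ha'⟩ : ∃ a', a' = β * a * β⁻¹ := ⟨_, rfl⟩
    rw [← ha'] at haa
    have ha'R : a' ∈ R := ha' ▸ hβn a ha hac
    have a'c : Cxy x y a' := ha' ▸ img hac
    have a'2 : a' * a' = -1 := ha' ▸ h.conj_sq a2
    have aa₀ : sg a a₀ = 1 := by
      rw [← h.sg_conj (g := β), ← ha', ea₀, sg_comm, haa]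
    obtain ⟨c₀, hc₀, hc₀L, hc₀B⟩ := exists_comm_avoid h ![x, y, a, a', a₀]
      (fun i => by fin_cases i; exacts [hF.hx, hF.hy, ha, ha'R, ha₀])
      {1, -1, a⁻¹, -a⁻¹, a'⁻¹, -a'⁻¹, (a * a')⁻¹, -(a * a')⁻¹} (Set.toFinite _) (by
        have hB : ({1, -1, a⁻¹, -a⁻¹, a'⁻¹, -a'⁻¹, (a * a')⁻¹, -(a * a')⁻¹} : Set (GL ι E)).ncard ≤ 8 := by
          refine (Set.ncard_insert_le _ _).trans (Nat.succ_le_succ ?_)
          refine (Set.ncard_insert_le _ _).trans (Nat.succ_le_succ ?_)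
          refine (Set.ncard_insert_le _ _).trans (Nat.succ_le_succ ?_)
          refine (Set.ncard_insert_le _ _).trans (Nat.succ_le_succ ?_)
          refine (Set.ncard_insert_le _ _).trans (Nat.succ_le_succ ?_)
          refine (Set.ncard_insert_le _ _).trans (Nat.succ_le_succ ?_)
          refine (Set.ncard_insert_le _ _).trans (by rw [Set.ncard_singleton])
        rw [h.card]
        nlinarith)
    simp only [Set.mem_insert_iff, Set.mem_singleton_iff, not_or] at hc₀B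
    obtain ⟨b1, b2, b3, b4, b5, b6, b7, b8⟩ := hc₀B
    have c0x : sg c₀ x = 1 := hc₀L 0
    have c0y : sg c₀ y = 1 := hc₀L 1
    have c0a : sg c₀ a = 1 := hc₀L 2
    have c0a' : sg c₀ a' = 1 := hc₀L 3
    have c0a₀ : sg c₀ a₀ = 1 := hc₀L 4
    have ncmul : ∀ {z : GL ι E}, c₀ ≠ z⁻¹ → c₀ ≠ -z⁻¹ → NC (z * c₀) := fun e1 e2 =>
      ⟨fun e => e1 (by rw [eq_inv_mul_of_mul_eq e, mul_one]), fun e => e2 (by rw [eq_inv_mul_of_mul_eq e, mul_neg_one])⟩
    obtain ⟨t, ht, ta, ta', tc₀⟩ := sep₂ h ha ha'R hc₀ ⟨b1, b2⟩ (ncmul b3 b4) (ncmul b5 b6)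
      (by rw [← mul_assoc]; exact ncmul b7 b8)
    obtain ⟨c, hc, hcc, c2, ca, ca', ca₀, tc⟩ : ∃ c ∈ R, Cxy x y c ∧ c * c = -1 ∧ sg c a = 1 ∧ sg c a' = 1 ∧
        sg c a₀ = 1 ∧ sg t c = -1 := by
      rcases h.sq c₀ hc₀ with e | e
      swap
      · exact ⟨c₀, hc₀, iff.2 ⟨c0x, c0y⟩, e, c0a, c0a', c0a₀, tc₀⟩
      obtain ⟨ax, ay⟩ := iff.1 hac
      exact ⟨c₀ * a, mul_mem hc₀ ha, (iff.2 ⟨c0x, c0y⟩).mul hac, by rw [h.mul_sq_comm c0a, e, a2, one_mul],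
        by rw [h.sg_mul hc₀ ha ha, c0a, sg_self, one_mul], by rw [h.sg_mul hc₀ ha ha'R, c0a', haa, one_mul],
        by rw [h.sg_mul hc₀ ha ha₀, c0a₀, aa₀, one_mul],
        by rw [h.sg_mul_right hc₀ ha ht, tc₀, ta]; norm_num⟩
    obtain ⟨c', hc'⟩ : ∃ c', c' = β * c * β⁻¹ := ⟨_, rfl⟩
    have hc'R : c' ∈ R := hc' ▸ hβn c hc hcc
    have c'2 : c' * c' = -1 := hc' ▸ h.conj_sq c2
    have c'a : sg c' a = 1 := by rw [hc', ← ea₀, h.sg_conj, ca₀]
    have c'a' : sg c' a' = 1 := by rw [hc', ha', h.sg_conj, ca]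
    obtain ⟨e, he⟩ : ∃ e, e = tl a' * tl c' * (tl c)⁻¹ * (tl a)⁻¹ := ⟨_, rfl⟩
    have heL : e ∈ Lam hF K := by rw [he, ha', hc']; exact mk a ha c hc hac hcc a2 c2
    have conj' : ∀ r, e * r * e⁻¹ = tl a' * (tl c' * ((tl c)⁻¹ * ((tl a)⁻¹ * r * tl a) * tl c) * (tl c')⁻¹) *
        (tl a')⁻¹ := fun r => by rw [he, ha', hc']; exact conjE a c r
    have efix : e * a * e⁻¹ = a := by
      rw [conj', (hfx a2 (sg_self a)).1, (hfx c2 (by rw [sg_comm, ca])).1, (hfx c'2 (by rw [sg_comm, c'a])).2,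
        (hfx a'2 haa).2]
    have heR : e ∈ R := mem_of_sign hO hF hN heL ha hac a2 (Or.inl (mul_inv_eq_iff_eq_mul.1 efix))
    have hmov : (tl c)⁻¹ * t * tl c = c⁻¹ * t := by
      have e0 := (h.sg_neg_iff hc ht).1 (by rw [sg_comm, tc])
      have e1 : c * (c⁻¹ * t) = -(c⁻¹ * t * c) := by
        rw [mul_inv_cancel_left, mul_assoc, show t * c = -(c * t) by rw [e0, neg_neg], mul_neg, inv_mul_cancel_left,
          neg_neg]
      have e2 := h.tl_move c2 e1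
      rw [mul_inv_cancel_left] at e2
      conv_lhs => rw [← e2]
      group
    have hres : (c⁻¹ * t = t ∨ c⁻¹ * t = -t) ∨ (c' * (c⁻¹ * t) = t ∨ c' * (c⁻¹ * t) = -t) := by
      have hm := mul_mem (inv_mem hc) ht
      have sa : sg (c⁻¹ * t) a' = 1 := by
        rw [h.sg_mul (inv_mem hc) ht ha'R, ta', mul_one, sg_eq_one_iff]
        exact comm_inv (sg_eq_one_iff.1 ca')
      rcases h.comm c' hc'R _ hm with e1 | e1
      · refine Or.inl ?_
        have := sgnR heR ht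
        rwa [conj', (hfx a2 ta).1, hmov, h.tl_fix c'2 e1, (hfx a'2 sa).2] at this
      · refine Or.inr ?_
        have := sgnR heR ht
        rwa [conj', (hfx a2 ta).1, hmov, h.tl_move c'2 e1,
          (hfx a'2 (by rw [h.sg_mul hc'R hm ha'R, c'a', sa, one_mul])).2] at this
    have c1 := h.nc_of_neg c2
    rcases hres with (e1 | e1) | (e1 | e1)
    · exact absurd (inv_eq_one.1 (mul_eq_right.1 e1)) c1.1
    · exact absurd (inv_inj.1 ((mul_right_cancel (e1.trans (neg_one_mul t).symm)).trans (by simp))) c1.2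
    · rw [← mul_assoc, mul_eq_right, mul_inv_eq_one] at e1
      exact close c hc hcc c2 (Or.inl (by rw [← hc', e1]))
    · rw [← mul_assoc] at e1
      have e2 := mul_right_cancel (e1.trans (neg_one_mul t).symm)
      rw [mul_inv_eq_iff_eq_mul, neg_one_mul] at e2
      exact close c hc hcc c2 (Or.inr (by rw [← hc', e2]))
  push Not at hcase
  have anti : ∀ a ∈ R, Cxy x y a → a * a = -1 → sg a (β * a * β⁻¹) = -1 := fun a ha hac a2 =>
    (h.sg_cases a _).resolve_left (hcase a ha hac a2)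
  obtain ⟨a, ha, hac, a2, -⟩ := exists_neg_cxy hO hF (one_mem R) ⟨by simp, by simp⟩
  obtain ⟨a₀, ha₀, ha₀c, ea₀⟩ := pre a ha hac
  obtain ⟨a', ha'⟩ : ∃ a', a' = β * a * β⁻¹ := ⟨_, rfl⟩
  have ha'R : a' ∈ R := ha' ▸ hβn a ha hac
  have a'2 : a' * a' = -1 := ha' ▸ h.conj_sq a2
  have haa : sg a a' = -1 := ha' ▸ anti a ha hac a2
  have A : Pair R a a' := ⟨ha, ha'R, haa⟩
  obtain ⟨ax, ay⟩ := iff.1 hac
  obtain ⟨a'x, a'y⟩ := iff.1 (ha' ▸ img hac : Cxy x y a')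
  have hPA : ∀ u ∈ ({x, y} : Set (GL ι E)), sg u a = 1 ∧ sg u a' = 1 := by
    rintro u (rfl | rfl) <;> refine ⟨?_, ?_⟩ <;> rw [sg_comm] <;> assumption
  obtain ⟨p, q, S, px, py, qx, qy, pa, pa', qa, qa'⟩ := h.exists_pair_perp₂ P A ax ay a'x a'y (by omega)
  obtain ⟨z, t, hz, ht, z2, zt, hzt⟩ := h.exists_neg_of_pair S
  have Z : Pair R z t := ⟨hz, ht, zt⟩
  have zperp : ∀ r ∈ R, sg p r = 1 → sg q r = 1 → sg z r = 1 ∧ sg t r = 1 := fun r hr e1 e2 => by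
    obtain ⟨f1, f2⟩ := hzt r hr (by rw [sg_comm, e1]) (by rw [sg_comm, e2])
    exact ⟨by rw [sg_comm, f1], by rw [sg_comm, f2]⟩
  obtain ⟨zx, tx⟩ := zperp x hF.hx px qx
  obtain ⟨zy, ty⟩ := zperp y hF.hy py qy
  obtain ⟨za, ta⟩ := zperp a ha pa qa
  obtain ⟨za', ta'⟩ := zperp a' ha'R pa' qa'
  obtain ⟨p', q', S', hS'⟩ := exists_pair_perp₃ h hn P A Z hPA
    (by rintro u (rfl | rfl) <;> refine ⟨?_, ?_⟩ <;> rw [sg_comm] <;> assumption)
    (by rintro u (rfl | rfl) <;> refine ⟨?_, ?_⟩ <;> rw [sg_comm] <;> assumption)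
  obtain ⟨z', z'', hz', -, z'2, -, hz't⟩ := h.exists_neg_of_pair S'
  have z'perp : ∀ u ∈ ({x, y, a, a', z, t} : Set (GL ι E)), u ∈ R → sg z' u = 1 := fun u hu huR => by
    rw [sg_comm]
    exact (hz't u huR (by rw [sg_comm, (hS' u hu).1]) (by rw [sg_comm, (hS' u hu).2])).1
  have z'x := z'perp x (by simp) hF.hx
  have z'y := z'perp y (by simp) hF.hy
  have z'a := z'perp a (by simp) ha
  have z'a' := z'perp a' (by simp) ha'R
  have z'z := z'perp z (by simp) hz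
  have z't := z'perp t (by simp) ht
  obtain ⟨c, hc, c2, cx, cy, ca, ca', ca₀⟩ : ∃ c ∈ R, c * c = -1 ∧ sg c x = 1 ∧ sg c y = 1 ∧ sg c a = 1 ∧
      sg c a' = 1 ∧ sg c a₀ = 1 := by
    have hzt' : ∀ {r : GL ι E}, r ∈ R → sg z r = 1 → sg t r = 1 → sg (z * t) r = 1 := fun hr e1 e2 => by
      rw [h.sg_mul hz ht hr, e1, e2, one_mul]
    rcases h.sg_cases z a₀ with e | e
    · exact ⟨z, hz, z2, zx, zy, za, za', e⟩
    rcases h.sg_cases z' a₀ with e' | e'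
    · exact ⟨z', hz', z'2, z'x, z'y, z'a, z'a', e'⟩
    have prod : ∀ s ∈ R, s * s = 1 → sg s z' = 1 → sg s x = 1 → sg s y = 1 → sg s a = 1 → sg s a' = 1 →
        sg s a₀ = -1 → ∃ c ∈ R, c * c = -1 ∧ sg c x = 1 ∧ sg c y = 1 ∧ sg c a = 1 ∧ sg c a' = 1 ∧ sg c a₀ = 1 :=
      fun s hs s2 sz' sx sy sa sa' sa₀ => ⟨s * z', mul_mem hs hz', by rw [h.mul_sq_comm sz', s2, z'2, one_mul],
        by rw [h.sg_mul hs hz' hF.hx, sx, z'x, one_mul], by rw [h.sg_mul hs hz' hF.hy, sy, z'y, one_mul],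
        by rw [h.sg_mul hs hz' ha, sa, z'a, one_mul], by rw [h.sg_mul hs hz' ha'R, sa', z'a', one_mul],
        by rw [h.sg_mul hs hz' ha₀, sa₀, e']; norm_num⟩
    rcases h.sg_cases t a₀ with et | et <;> rcases h.sq t ht with t2 | t2
    · exact prod (z * t) (mul_mem hz ht) (by rw [h.mul_sq_anti hz ht zt, z2, t2, mul_one, neg_neg])
        (by rw [h.sg_mul hz ht hz', sg_comm z z', z'z, sg_comm t z', z't, one_mul]) (hzt' hF.hx zx tx)
        (hzt' hF.hy zy ty) (hzt' ha za ta) (hzt' ha'R za' ta') (by rw [h.sg_mul hz ht ha₀, e, et, mul_one])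
    · exact ⟨t, ht, t2, tx, ty, ta, ta', et⟩
    · exact prod t ht t2 (by rw [sg_comm, z't]) tx ty ta ta' et
    · exact ⟨z * t, mul_mem hz ht, by rw [h.mul_sq_anti hz ht zt, z2, t2, neg_mul_neg, one_mul], hzt' hF.hx zx tx,
        hzt' hF.hy zy ty, hzt' ha za ta, hzt' ha'R za' ta', by rw [h.sg_mul hz ht ha₀, e, et]; norm_num⟩
  have hcc : Cxy x y c := iff.2 ⟨cx, cy⟩
  obtain ⟨c', hc'⟩ : ∃ c', c' = β * c * β⁻¹ := ⟨_, rfl⟩
  have hc'R : c' ∈ R := hc' ▸ hβn c hc hcc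
  have c'2 : c' * c' = -1 := hc' ▸ h.conj_sq c2
  have hcc' : sg c c' = -1 := hc' ▸ anti c hc hcc c2
  have c'a : sg c' a = 1 := by rw [hc', ← ea₀, h.sg_conj, ca₀]
  have c'a' : sg c' a' = 1 := by rw [hc', ha', h.sg_conj, ca]
  obtain ⟨c'x, c'y⟩ := iff.1 (hc' ▸ img hcc : Cxy x y c')
  obtain ⟨p'', q'', S'', hS''⟩ := exists_pair_perp₃ h hn P A ⟨hc, hc'R, hcc'⟩ hPA
    (by rintro u (rfl | rfl) <;> refine ⟨?_, ?_⟩ <;> rw [sg_comm] <;> assumption)
    (by rintro u (rfl | rfl) <;> refine ⟨?_, ?_⟩ <;> rw [sg_comm] <;> assumption)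
  obtain ⟨w, w', hw, -, w2, -, hwt⟩ := h.exists_neg_of_pair S''
  have wperp : ∀ u ∈ ({x, y, a, a', c, c'} : Set (GL ι E)), u ∈ R → sg w u = 1 := fun u hu huR => by
    rw [sg_comm]
    exact (hwt u huR (by rw [sg_comm, (hS'' u hu).1]) (by rw [sg_comm, (hS'' u hu).2])).1
  have hwc : Cxy x y w := iff.2 ⟨wperp x (by simp) hF.hx, wperp y (by simp) hF.hy⟩
  obtain ⟨e, he⟩ : ∃ e, e = tl a' * tl c' * (tl c)⁻¹ * (tl a)⁻¹ := ⟨_, rfl⟩
  have heL : e ∈ Lam hF K := by rw [he, ha', hc']; exact mk a ha c hc hac hcc a2 c2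
  have conj' : ∀ r, e * r * e⁻¹ = tl a' * (tl c' * ((tl c)⁻¹ * ((tl a)⁻¹ * r * tl a) * tl c) * (tl c')⁻¹) *
      (tl a')⁻¹ := fun r => by rw [he, ha', hc']; exact conjE a c r
  have wfix : e * w * e⁻¹ = w := by
    rw [conj', (hfx a2 (wperp a (by simp) ha)).1, (hfx c2 (wperp c (by simp) hc)).1,
      (hfx c'2 (wperp c' (by simp) hc'R)).2, (hfx a'2 (wperp a' (by simp) ha'R)).2]
  have heR : e ∈ R := mem_of_sign hO hF hN heL hw hwc w2 (Or.inl (mul_inv_eq_iff_eq_mul.1 wfix))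
  have := sgnR heR ha
  rw [conj', (hfx a2 (sg_self a)).1, (hfx c2 (by rw [sg_comm, ca])).1, (hfx c'2 (by rw [sg_comm, c'a])).2,
    h.tl_move a'2 ((h.sg_neg_iff ha'R ha).1 (by rw [sg_comm, haa]))] at this
  exfalso
  have hnc := h.nc_of_neg a'2
  rcases this with e1 | e1
  · exact hnc.1 (mul_eq_right.1 e1)
  · exact hnc.2 (mul_right_cancel (e1.trans (neg_one_mul a).symm))

/-- The recorded elements are those of the two-group. -/
theorem lam_sub {β : GL ι E} (hβ : β ∈ Lam hF K) : β ∈ R := by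
  classical
  have h := hO.sr
  have P := hF.pair hO
  obtain ⟨Z, hZ⟩ : ∃ Z : Subgroup (GL ι E), ∀ z, z ∈ Z ↔ z = 1 ∨ z = -1 :=
    ⟨{ carrier := {z | z = 1 ∨ z = -1}
       one_mem' := Or.inl rfl
       mul_mem' := fun {a b} ha hb => by
         simp only [Set.mem_ofPred_eq] at ha hb ⊢
         rcases ha with e | e <;> rcases hb with e' | e' <;> simp [e, e']
       inv_mem' := fun {a} ha => by
         simp only [Set.mem_ofPred_eq] at ha ⊢
         rcases ha with e | e <;> simp [e] }, fun z => Iff.rfl⟩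
  haveI : Z.Normal := ⟨fun z hz g => by
    rw [hZ] at hz ⊢
    rcases hz with e | e <;> simp [e]⟩
  obtain ⟨C, hC⟩ : ∃ C : Subgroup (GL ι E), ∀ u, u ∈ C ↔ u ∈ R ∧ Cxy x y u :=
    ⟨{ carrier := {u | u ∈ R ∧ Cxy x y u}
       one_mem' := ⟨one_mem R, by simp, by simp⟩
       mul_mem' := fun ha hb => ⟨mul_mem ha.1 hb.1, ha.2.mul hb.2⟩
       inv_mem' := fun ha => ⟨inv_mem ha.1, ha.2.inv⟩ }, fun u => Iff.rfl⟩
  obtain ⟨q, hq⟩ : ∃ q : GL ι E →* GL ι E ⧸ Z, ∀ g k, q g = q k ↔ k = g ∨ k = -g := by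
    refine ⟨QuotientGroup.mk' Z, fun g k => ?_⟩
    rw [QuotientGroup.mk'_eq_mk']
    constructor
    · rintro ⟨z, hz, rfl⟩
      rcases (hZ z).1 hz with e | e <;> simp [e]
    · rintro (e | e)
      · exact ⟨1, one_mem Z, by rw [mul_one, e]⟩
      · exact ⟨-1, (hZ _).2 (Or.inr rfl), by rw [mul_neg_one, e]⟩
  obtain ⟨A, hA⟩ : ∃ A : Subgroup ((Lam hF K).map q), ∀ g, g ∈ A ↔ (g : GL ι E ⧸ Z) ∈ C.map q :=
    ⟨(C.map q).subgroupOf _, fun g => Subgroup.mem_subgroupOf⟩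
  obtain ⟨mk, hmk⟩ : ∃ mk : Lam hF K → (Lam hF K).map q, ∀ g, (mk g : GL ι E ⧸ Z) = q g :=
    ⟨fun g => ⟨q g, Subgroup.mem_map_of_mem q g.2⟩, fun g => rfl⟩
  have surj : ∀ g, ∃ b : Lam hF K, mk b = g := fun g => by
    obtain ⟨b, hb, e⟩ := Subgroup.mem_map.1 g.2
    exact ⟨⟨b, hb⟩, Subtype.ext ((hmk _).trans e)⟩
  have back : ∀ b : GL ι E, q b ∈ C.map q → b ∈ R := fun b hb => by
    obtain ⟨u, hu, e⟩ := Subgroup.mem_map.1 hb
    rcases (hq u b).1 e with rfl | rfl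
    · exact ((hC _).1 hu).1
    · exact h.neg_mem ((hC _).1 hu).1
  have memA : ∀ b : Lam hF K, (b : GL ι E) ∈ R → mk b ∈ A := fun b hb =>
    (hA _).2 (by rw [hmk]; exact Subgroup.mem_map_of_mem q ((hC _).2 ⟨hb, b.2.1⟩))
  haveI : Finite ((Lam hF K).map q) := inferInstance
  obtain ⟨p, p', S, px, py, qx, qy⟩ := h.exists_pair_perp P (by have := hO.dim; omega)
  obtain ⟨z, t, hz, ht, z2, zt, hzt⟩ := h.exists_neg_of_pair S
  have hzC : ∀ s ∈ R, sg p s = 1 → sg p' s = 1 → sg z s = 1 ∧ sg t s = 1 := fun s hs e1 e2 => by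
    obtain ⟨f1, f2⟩ := hzt s hs (by rw [sg_comm, e1]) (by rw [sg_comm, e2])
    exact ⟨by rw [sg_comm, f1], by rw [sg_comm, f2]⟩
  obtain ⟨zx, tx⟩ := hzC x hF.hx px qx
  obtain ⟨zy, ty⟩ := hzC y hF.hy py qy
  have zc : Cxy x y z := (cxy_iff hO hF).2 ⟨zx, zy⟩
  have tc : Cxy x y t := (cxy_iff hO hF).2 ⟨tx, ty⟩
  obtain ⟨v, hv, hvc, v2, zv⟩ : ∃ v ∈ R, Cxy x y v ∧ v * v = -1 ∧ sg z v = -1 := by
    rcases h.sq t ht with t2 | t2
    swap
    · exact ⟨t, ht, tc, t2, zt⟩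
    obtain ⟨p₁, q₁, S₁, a1, a2, a3, a4, a5, a6, a7, a8⟩ := h.exists_pair_perp₂ P ⟨hz, ht, zt⟩ zx zy tx ty (by
      have := hO.dim; omega)
    obtain ⟨w, w', hw, -, w2, -, hwt⟩ := h.exists_neg_of_pair S₁
    have g1 : ∀ r ∈ R, sg p₁ r = 1 → sg q₁ r = 1 → sg w r = 1 := fun r hr e1 e2 => by
      rw [sg_comm]; exact (hwt r hr (by rw [sg_comm, e1]) (by rw [sg_comm, e2])).1
    refine ⟨t * w, mul_mem ht hw, tc.mul ((cxy_iff hO hF).2 ⟨g1 x hF.hx a1 a3, g1 y hF.hy a2 a4⟩), ?_, ?_⟩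
    · rw [h.mul_sq_comm (by rw [sg_comm, g1 t ht a6 a8]), t2, w2, one_mul]
    · rw [h.sg_mul_right ht hw hz, zt, sg_comm z w, g1 z hz a5 a7, mul_one]
  have cent : ∀ (u : GL ι E) (hu : u ∈ R) (huc : Cxy x y u), u * u = -1 → ∀ g,
      g * mk ⟨u, mem_lam hO hF hu huc⟩ = mk ⟨u, mem_lam hO hF hu huc⟩ * g → g ∈ A := by
    intro u hu huc u2 g e
    obtain ⟨b, rfl⟩ := surj g
    have e1 := congrArg Subtype.val e
    simp only [Subgroup.coe_mul, hmk, ← map_mul, hq] at e1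
    refine memA b (mem_of_sign hO hF hN b.2 hu huc u2 ?_)
    rcases e1 with e1 | e1
    · exact Or.inl e1.symm
    · exact Or.inr (by rw [e1, neg_neg])
  have top := eq_top_of_selfnorm A ?_ ?_ (memA ⟨z, mem_lam hO hF hz zc⟩ hz) (memA ⟨v, mem_lam hO hF hv hvc⟩ hv)
    (cent z hz zc z2) (cent v hv hvc v2) ?_
  · have hb : mk ⟨β, hβ⟩ ∈ A := top ▸ Subgroup.mem_top _
    rw [hA, hmk] at hb
    exact back β hb
  · intro g hg
    obtain ⟨b, rfl⟩ := surj g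
    rw [hA, hmk] at hg
    have hbR := back _ hg
    refine Subtype.ext ?_
    rw [Subgroup.coe_mul, hmk, ← map_mul, Subgroup.coe_one, ← map_one q, hq]
    rcases h.sq _ hbR with e | e <;> simp [e]
  · intro g hg
    obtain ⟨b, rfl⟩ := surj g
    refine memA b (mem_of_norm hO hF hN b.2 fun u hu huc => back _ ?_)
    have := hg _ (memA ⟨u, mem_lam hO hF hu huc⟩ hu)
    rw [hA] at this
    simpa only [Subgroup.coe_mul, Subgroup.coe_inv, hmk, map_mul, map_inv] using this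
  · intro g hg
    refine cent (z * v) (mul_mem hz hv) (zc.mul hvc) (by rw [h.mul_sq_anti hz hv zv, z2, v2, neg_mul_neg, one_mul]) g ?_
    convert hg using 2 <;> exact Subtype.ext (by simp only [Subgroup.coe_mul, hmk, map_mul])

end Cfsg.Agent.ClassicalMax.SympPlus
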