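import Cfsg.Agent.ClassicalMax.SympPlus.Model
import Cfsg.Agent.ClassicalMax.SympType.LinearBridge
import Cfsg.Agent.ClassicalMax.SympType.UBridge
import Cfsg.Agent.Classical.HermGroup

/-!
Over a prime field: the half-dimensional groups are linear or unitary according to `p` modulo four.
-/

set_option autoImplicit false
set_option linter.unusedSectionVars false
set_option linter.style.haveILetI false

namespace Cfsg.Agent.ClassicalMax.SympPlus

open Matrix SympType SympMinus Cfsg.Agent.Classical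

variable {F : Type*} [Field F] [Fintype F]

theorem dich_two_pow {p : ℕ} (hp : p.Prime) (hF : Fintype.card F = p) : ∀ m : ℕ, Dichotomy (Fin (2 ^ (m + 2))) F := by
  intro m
  induction m with
  | zero => exact dichotomy_four hp hF
  | succ m ih =>
    exact dichotomy_step ⟨2 ^ m, by ring⟩ (by positivity) (by rw [Fintype.card_fin]; ring) ih

theorem udich_two_pow {E : Type*} [Field E] [Fintype E] {σ : E →+* E} {q : ℕ} (hσq : ∀ x, σ x = x ^ q)
    (hq : Nat.card (Herm.fixField σ) = q) (hqp : q.Prime) : ∀ m : ℕ, UDichotomy σ (2 ^ (m + 2)) := by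
  intro m
  induction m with
  | zero => exact Four.base_four_u hσq hq hqp
  | succ m ih => exact udichotomy_step hσq hq (by ring) ⟨2 ^ m, by ring⟩ (by positivity) ih

variable {ι : Type} [Fintype ι] [DecidableEq ι]

theorem small_or_root_prime {p m : ℕ} (hp : p.Prime) (hpo : Odd p) (hF : Fintype.card F = p) (hm : 1 ≤ m)
    (hι : Fintype.card ι = 2 * 2 ^ (m + 2)) {J : Matrix ι ι F} {R K : Subgroup (GL ι F)} (hO : Over J R K)
    (hs : Jᵀ = J) (hJ : IsUnit J) {a : GL ι F} (ha : a ∈ R) (a2 : a * a = -1) :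
    (∀ g ∈ K, g * a = a * g → ∀ r ∈ R, r * a = a * r → g * r * g⁻¹ ∈ R) ∨
      ∀ T ∈ Ca J a, ((T : Matrix ι ι F) - 1) * ((T : Matrix ι ι F) - 1) = 0 → T ∈ K := by
  classical
  haveI := Fact.mk hp
  haveI : CharP F p := charP_of_card_eq_prime_pow (f := 1) (by rw [pow_one, hF])
  have hd : 8 ≤ 2 ^ (m + 2) := le_trans (by norm_num : 8 ≤ 2 ^ (1 + 2)) (Nat.pow_le_pow_right (by norm_num) (by omega))
  have hp2 : ¬ p = 2 := fun e => by rw [e] at hpo; exact Nat.not_odd_iff_even.2 even_two hpo
  have h2 := hO.sr.two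
  obtain ⟨c⟩ := exists_crd h2 hs hJ (hO.le ha) a2 hι
  have hp0 : (p : F) = 0 := CharP.cast_eq_zero F p
  have hdvd : ¬ p ∣ 2 ^ (m + 2) := fun e => hp2 ((Nat.prime_dvd_prime_iff_eq hp Nat.prime_two).1 (hp.dvd_of_dvd_pow e))
  rcases Nat.odd_mod_four_iff.1 (Nat.odd_iff.1 hpo) with hp4 | hp4
  · obtain ⟨j, hj⟩ := (FiniteField.isSquare_neg_one_iff (F := F)).2 (by rw [hF, hp4]; norm_num)
    have hj0 : j ≠ 0 := fun e => by simp [e] at hj
    refine small_or_root c (RingHom.id F) hj.symm hO ha a2 h2 (fun N => ?_) hp0 (p := p)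
      (fun x => by rw [pow_mul, ← hF, FiniteField.pow_card, FiniteField.pow_card]) hd
      (fun e => hdvd ((CharP.cast_eq_zero_iff F p _).1 e)) (Tg := ⊤) (fun _ => Subgroup.mem_top _)
      (fun R' hR' _ K' _ hK' => ?_)
    · obtain ⟨g, hg, e1, e2⟩ := c.exists_pre (RingHom.id F) j ((2 : F)⁻¹ • N) (((2 : F)⁻¹ * j⁻¹) • N)
      refine ⟨g, hg, ?_, fun r _ => ?_⟩
      · rw [e1]
        ext i l
        simp only [Matrix.add_apply, Matrix.smul_apply, Matrix.map_apply, RingHom.id_apply, smul_eq_mul]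
        field_simp
        ring
      · have e3 : c.psB (RingHom.id F) j g = 0 := by
          rw [e2]
          ext i l
          simp only [Matrix.sub_apply, Matrix.smul_apply, Matrix.map_apply, RingHom.id_apply, smul_eq_mul,
            Matrix.zero_apply]
          field_simp
          ring
        rw [e3, Matrix.zero_mul, Matrix.mul_zero]
    · rcases dich_two_pow hp hF m R' hR' K' (fun g hg hn => hK' g (Subgroup.mem_top _) hg hn) with e | e
      · exact Or.inl e
      · exact Or.inr fun g _ hg => e g hg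
  · haveI : Fintype (GaloisField p 2) := Fintype.ofFinite _
    have hE : Fintype.card (GaloisField p 2) = p ^ 2 := by
      rw [← Nat.card_eq_fintype_card, GaloisField.card p 2 (by norm_num)]
    obtain ⟨τ, -⟩ : ∃ _τ : F →+* GaloisField p 2, True :=
      ⟨(algebraMap (ZMod p) (GaloisField p 2)).comp (ZMod.ringEquivOfPrime F hp hF).symm.toRingHom, trivial⟩
    obtain ⟨σ, hσq, hσ, hσc, -⟩ := exists_powHom hE
    obtain ⟨j, hj⟩ : ∃ j : GaloisField p 2, j * j = -1 := by
      obtain ⟨j, hj⟩ := (FiniteField.isSquare_neg_one_iff (F := GaloisField p 2)).2 (by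
        rw [hE, Nat.pow_mod, hp4]; norm_num)
      exact ⟨j, hj.symm⟩
    have h2E : (2 : GaloisField p 2) ≠ 0 := fun e => h2 (τ.injective (by rw [map_ofNat, e, map_zero]))
    have hconj : ∀ i : GaloisField p 2, i * i = -1 → σ i = -i := fun i hi => by
      obtain ⟨l, hl⟩ : ∃ l, p = 2 * (2 * l + 1) + 1 := ⟨p / 4, by omega⟩
      rw [hσq, show i ^ p = i ^ (2 * (2 * l + 1) + 1) by rw [← hl], pow_succ, pow_mul, pow_two, hi, Odd.neg_one_pow ⟨l, rfl⟩, neg_one_mul]
    have hjσ := hconj j hj
    have hj0 : j ≠ 0 := fun e => by simp [e] at hj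
    have hfix : ∀ x, σ (τ x) = τ x := fun x => by
      rw [hσq, ← map_pow, show x ^ p = x ^ Fintype.card F by rw [hF], FiniteField.pow_card]
    obtain ⟨f, hf⟩ : ∃ f : F × F → GaloisField p 2, ∀ z, f z = τ z.1 + j * τ z.2 := ⟨_, fun _ => rfl⟩
    have hfs : Function.Surjective f := by
      refine ((Fintype.bijective_iff_injective_and_card f).2 ⟨fun z w e => ?_, by
        rw [Fintype.card_prod, hF, hE, sq]⟩).2
      rw [hf, hf] at e
      have e' := congrArg σ e
      simp only [map_add, map_mul, hjσ, hfix] at e'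
      exact Prod.ext (τ.injective (mul_left_cancel₀ h2E (by linear_combination e + e')))
        (τ.injective (mul_left_cancel₀ (mul_ne_zero h2E hj0) (by linear_combination e - e')))
    have hB : ∀ g, c.psB τ j g = (c.psM τ j g).map σ := fun g => by
      ext i l
      simp only [Crd.psB, Crd.psM, Matrix.sub_apply, Matrix.map_apply, Matrix.add_apply, Matrix.smul_apply, smul_eq_mul,
        map_add, map_mul, hjσ, hfix]
      ring
    refine small_or_root c τ hj hO ha a2 h2E (fun N => ?_) hp0 (p := p)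
      (fun x => by rw [← sq, ← hE, FiniteField.pow_card]) hd
      (fun e => hdvd ((CharP.cast_eq_zero_iff (GaloisField p 2) p _).1 e)) (Tg := UG σ) (fun g => ?_)
      (fun R' hR' hR'U K' hK'U hK' => ?_)
    · choose v hv using fun i l => hfs (N i l)
      obtain ⟨g, hg, e1, -⟩ := c.exists_pre τ j (Matrix.of fun i l => (v i l).1) (Matrix.of fun i l => (v i l).2)
      have e3 : c.psM τ j g = N := by
        rw [e1]; ext i l
        simp only [Matrix.add_apply, Matrix.smul_apply, Matrix.map_apply, Matrix.of_apply, smul_eq_mul, ← hf]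
        exact hv i l
      exact ⟨g, hg, e3, fun r e => by rw [hB, hB, e3, ← Matrix.map_mul, ← Matrix.map_mul, e]⟩
    · have := (c.iso_iff τ j h2E hj (Ca_comm g.2)).1 (mem_Ca.1 g.2).1
      rw [hB] at this
      exact this
    · exact udich_two_pow hσq hσc hp m R' ⟨hR', hσ, hconj, hR'U⟩ K' hK'U hK'

end Cfsg.Agent.ClassicalMax.SympPlus
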