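import Cfsg.Agent.ClassicalMax.SympPlus.Invol
import Cfsg.Agent.ClassicalMax.SympPlus.Inst

/-!
All centralisers small gives the normaliser; one large makes all large; and the reproducing formula of the two-group.
-/

set_option autoImplicit false
set_option linter.unusedSectionVars false

namespace Cfsg.Agent.ClassicalMax.SympPlus

open Matrix SympType SympMinus

variable {ι : Type*} [Fintype ι] [DecidableEq ι] {F : Type*} [Field F] [Finite F] {J : Matrix ι ι F}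
  {R K : Subgroup (GL ι F)}

/-- The centraliser normalises the centraliser in the two-group. -/
def SmallAt (R K : Subgroup (GL ι F)) (a : GL ι F) : Prop :=
  ∀ g ∈ K, g * a = a * g → ∀ r ∈ R, r * a = a * r → g * r * g⁻¹ ∈ R

/-- The overgroup has the unipotent elements of index two of the centraliser. -/
def FullAt (J : Matrix ι ι F) (K : Subgroup (GL ι F)) (a : GL ι F) : Prop :=
  ∀ T ∈ Ca J a, ((T : Matrix ι ι F) - 1) * ((T : Matrix ι ι F) - 1) = 0 → T ∈ K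

variable (hO : Over J R K)
include hO

theorem full_carry {a a' : GL ι F} (ha : a ∈ R) (ha' : a' ∈ R) (a2 : a * a = -1) (a'2 : a' * a' = -1)
    (hf : FullAt J K a) : FullAt J K a' := by
  obtain ⟨n, hn, -, e⟩ := hO.carry ha ha' a2 a'2
  intro T hT hTT
  obtain ⟨hTJ, hTa⟩ := mem_Ca.1 hT
  have hnI := hO.kle hn
  have h1 : n⁻¹ * T * n ∈ Ca J a := by
    refine mem_Ca.2 ⟨mul_mem (mul_mem (inv_mem hnI) hTJ) hnI, ?_⟩
    have e1 : a = n⁻¹ * a' * n := by rw [← e]; group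
    rw [e1, show n⁻¹ * T * n * (n⁻¹ * a' * n) = n⁻¹ * (T * a') * n by group, hTa]
    group
  have h2 := hf _ h1 (by
    have e2 : ((n⁻¹ * T * n : GL ι F) : Matrix ι ι F) - 1 =
        ((n⁻¹ : GL ι F) : Matrix ι ι F) * ((T : Matrix ι ι F) - 1) * (n : Matrix ι ι F) := by
      simp [Matrix.mul_sub, Matrix.sub_mul]
    rw [e2]
    calc _ = ((n⁻¹ : GL ι F) : Matrix ι ι F) * (((T : Matrix ι ι F) - 1) *
          ((n : Matrix ι ι F) * ((n⁻¹ : GL ι F) : Matrix ι ι F)) * ((T : Matrix ι ι F) - 1)) * (n : Matrix ι ι F) := by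
          simp only [Matrix.mul_assoc]
      _ = 0 := by rw [Units.mul_inv, Matrix.mul_one, hTT, Matrix.mul_zero, Matrix.zero_mul])
  have h3 := mul_mem (mul_mem hn h2) (inv_mem hn)
  rwa [show n * (n⁻¹ * T * n) * n⁻¹ = T by group] at h3

/-- Small centralisers everywhere give the normaliser. -/
theorem nm_of_small (hs : ∀ a ∈ R, a * a = -1 → SmallAt R K a) : ∀ g ∈ K, Nm R g := by
  have h := hO.sr
  refine nm_all hO fun a ha a2 g hg hga => ?_
  obtain ⟨y, hy, hay⟩ := h.exists_anti ha (h.nc_of_neg a2)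
  obtain ⟨p, q, Q, pa, -, qa, -⟩ := h.exists_pair_perp ⟨ha, hy, hay⟩ (by have := hO.dim; omega)
  obtain ⟨c, t, hc, ht, c2, ct, hperp⟩ := h.exists_neg_of_pair Q
  obtain ⟨ac, at'⟩ := hperp a ha (by rw [sg_comm, pa]) (by rw [sg_comm, qa])
  have nc : NC (a * c) := h.nc_of_sg (y := t) (by rw [h.sg_mul ha hc ht, at', ct, one_mul])
  obtain ⟨c', hc'⟩ : ∃ c', c' = g * c * g⁻¹ := ⟨_, rfl⟩
  have hc'R : c' ∈ R := hc' ▸ hs a ha a2 g hg hga c hc (sg_eq_one_iff.1 ac).symm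
  have ga : g * a * g⁻¹ = a := mul_inv_eq_iff_eq_mul.2 hga
  have ac' : sg a c' = 1 := by rw [hc', ← ga, h.sg_conj, ac]
  have nc' : NC (a * c') := by
    have e : a * c' = g * (a * c) * g⁻¹ := by
      rw [hc', show g * (a * c) * g⁻¹ = g * a * g⁻¹ * (g * c * g⁻¹) by group, ga]
    constructor <;> intro e' <;> rw [e, mul_inv_eq_iff_eq_mul] at e'
    · rw [one_mul, mul_eq_left] at e'; exact nc.1 e'
    · rw [neg_one_mul] at e'
      exact nc.2 (mul_left_cancel (e'.trans (by rw [mul_neg, mul_one] : -g = g * -1)))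
  obtain ⟨n, hn, hnn, e1, e2⟩ := hO.carry_fix ha hc'R hc a2 (hc' ▸ h.conj_sq c2) c2 ac' ac nc' nc
  obtain ⟨m, hm⟩ : ∃ m, m = n * g := ⟨_, rfl⟩
  have hmK : m ∈ K := hm ▸ mul_mem hn hg
  have hma : m * a = a * m := by rw [hm, mul_assoc, hga, ← mul_assoc, e2, mul_assoc]
  have hmc : m * c = c * m := by
    refine mul_inv_eq_iff_eq_mul.1 ?_
    rw [hm, show n * g * c * (n * g)⁻¹ = n * (g * c * g⁻¹) * n⁻¹ by group, ← hc', e1]
  have hmn : Nm R m := by
    intro r hr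
    rcases h.sg_cases r a with e | e
    · exact hs a ha a2 m hmK hma r hr (sg_eq_one_iff.1 e)
    · obtain ⟨s, hsR, sc', sa⟩ := h.sep hc ha (h.nc_of_neg a2) (by
        rwa [show c * a = a * c from (sg_eq_one_iff.1 ac).symm])
      have e' : sg (s⁻¹ * r) a = 1 := by
        have h0 : sg s⁻¹ a = -1 := by
          rcases h.sg_cases s⁻¹ a with e0 | e0
          · exfalso
            have e1' := h.sg_mul (inv_mem hsR) hsR ha
            rw [inv_mul_cancel, e0, sa, show sg (1 : GL ι F) a = 1 by simp [sg]] at e1'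
            norm_num at e1'
          · exact e0
        rw [h.sg_mul (inv_mem hsR) hr ha, h0, e]; norm_num
      rw [show m * r * m⁻¹ = m * s * m⁻¹ * (m * (s⁻¹ * r) * m⁻¹) by group]
      exact mul_mem (hs c hc c2 m hmK hmc s hsR (sg_eq_one_iff.1 sc'))
        (hs a ha a2 m hmK hma _ (mul_mem (inv_mem hsR) hr) (sg_eq_one_iff.1 e'))
  have := (nm_inv hnn).mul hmn
  rwa [hm, inv_mul_cancel_left] at this

/-- The reproducing formula. -/
theorem reproduce [Fintype R] (hn : (Fintype.card ι : F) ≠ 0) (u v w : ι → F) :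
    ∑ r : R, (((r.1 : Matrix ι ι F) *ᵥ w) ⬝ᵥ (J *ᵥ v)) • ((r.1 : Matrix ι ι F) *ᵥ u) =
      ((2 : F) * Fintype.card ι * (w ⬝ᵥ (J *ᵥ u))) • v := by
  obtain ⟨X, hX⟩ : ∃ X, X = Matrix.vecMulVec u (w ᵥ* J) := ⟨_, rfl⟩
  obtain ⟨c, hc⟩ := hO.sr.irr (∑ r : R, (r.1 : Matrix ι ι F) * X * ((r.1⁻¹ : GL ι F) : Matrix ι ι F)) fun x hx => by
    rw [Finset.sum_mul, Finset.mul_sum]
    symm
    refine Fintype.sum_equiv (Equiv.mulLeft (⟨x, hx⟩ : R)) _ _ fun r => ?_
    simp [Matrix.mul_assoc]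
  have htr := congrArg Matrix.trace hc
  rw [Matrix.trace_sum, Matrix.trace_smul, Matrix.trace_one, smul_eq_mul] at htr
  have ht : ∀ r : R, ((r.1 : Matrix ι ι F) * X * ((r.1⁻¹ : GL ι F) : Matrix ι ι F)).trace = w ⬝ᵥ (J *ᵥ u) := fun r => by
    rw [Matrix.trace_mul_cycle, ← Units.val_mul, inv_mul_cancel, Units.val_one, Matrix.one_mul, hX,
      Matrix.trace_vecMulVec, dotProduct_comm, ← Matrix.dotProduct_mulVec]
  simp only [ht, Finset.sum_const, Finset.card_univ, nsmul_eq_mul, ← Nat.card_eq_fintype_card (α := R), hO.sr.card,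
    Nat.cast_mul, Nat.cast_ofNat] at htr
  have hc' : c = 2 * Fintype.card ι * (w ⬝ᵥ (J *ᵥ u)) := mul_right_cancel₀ hn (by rw [← htr]; ring)
  have hv := congrArg (fun M : Matrix ι ι F => M *ᵥ v) hc
  simp only [Matrix.sum_mulVec, Matrix.smul_mulVec, Matrix.one_mulVec] at hv
  rw [← hc', ← hv]
  refine Finset.sum_congr rfl fun r _ => ?_
  have hr := mem_iso.1 (hO.le r.2)
  rw [← Matrix.mulVec_mulVec, ← Matrix.mulVec_mulVec, hX, Matrix.vecMulVec_mulVec, op_smul_eq_smul, Matrix.mulVec_smul]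
  congr 1
  rw [← Matrix.dotProduct_mulVec]
  calc _ = w ⬝ᵥ ((((r.1 : Matrix ι ι F))ᵀ * J * (r.1 : Matrix ι ι F)) *ᵥ (((r.1⁻¹ : GL ι F) : Matrix ι ι F) *ᵥ v)) := by
        rw [Matrix.mulVec_mulVec, Matrix.mul_assoc, Units.mul_inv, Matrix.mul_one, ← Matrix.mulVec_mulVec,
          Matrix.dotProduct_mulVec w (r.1 : Matrix ι ι F)ᵀ, Matrix.vecMul_transpose]
    _ = _ := by rw [hr]

end Cfsg.Agent.ClassicalMax.SympPlus
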