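import Cfsg.Agent.ClassicalMax.SympMinus.Lifts
import Cfsg.Agent.ClassicalMax.SympType.Step

/-!
With the scalars adjoined, the two-group and the products of two lifts generate its normaliser.
-/

set_option autoImplicit false
set_option linter.unusedSectionVars false

namespace Cfsg.Agent.ClassicalMax.SympPlus

open Matrix SympType SympMinus

variable {κ : Type*} [Fintype κ] [DecidableEq κ] {E : Type*} [Field E] [Finite E]

theorem sg_conj_any (g x y : GL κ E) : sg (g * x * g⁻¹) (g * y * g⁻¹) = sg x y := by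
  have e1 : g * x * g⁻¹ * (g * y * g⁻¹) = g * (x * y) * g⁻¹ := by group
  have e2 : g * y * g⁻¹ * (g * x * g⁻¹) = g * (y * x) * g⁻¹ := by group
  unfold sg
  rw [e1, e2]
  have e : (g * (x * y) * g⁻¹ = g * (y * x) * g⁻¹) = (x * y = y * x) :=
    propext ⟨fun e => mul_left_cancel (mul_right_cancel e), fun e => by rw [e]⟩
  by_cases hh : x * y = y * x
  · rw [if_pos (e.mpr hh), if_pos hh]
  · rw [if_neg (fun h' => hh (e.mp h')), if_neg hh]

theorem sg_sc_left (c : Eˣ) (x y : GL κ E) : sg (sc c * x) y = sg x y := by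
  simpa [sc_one] using sg_sc c 1 x y

theorem sg_sc_right (c : Eˣ) (x y : GL κ E) : sg x (sc c * y) = sg x y := by
  simpa [sc_one] using sg_sc 1 c x y

variable {R : Subgroup (GL κ E)} (h : PS R)
include h

/-- The action of a lift. -/
theorem tl_act {x r : GL κ E} (hx : x ∈ R) (x2 : x * x = -1) (hr : r ∈ R) :
    (sg x r = 1 → tl x * r * (tl x)⁻¹ = r) ∧ (sg x r = -1 → tl x * r * (tl x)⁻¹ = x * r) := by
  have hT : ((tl x : GL κ E) : Matrix κ κ E) = 1 + (x : Matrix κ κ E) := by rw [tl, dif_pos ⟨x2, h.two⟩]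
  obtain ⟨f, m⟩ := h.lift_conj hr hx x2 hT
  refine ⟨fun e => f (sg_eq_one_iff.1 e), fun e => m ((h.comm x hx r hr).resolve_left fun e' => ?_)⟩
  rw [sg_eq_one_iff.2 e'] at e
  norm_num at e

open Classical in
/-- Commuting lifts act as the product of their transvections. -/
theorem conj_list : ∀ l : List (GL κ E), (∀ x ∈ l, x ∈ R ∧ x * x = -1) → (∀ x ∈ l, ∀ y ∈ l, sg x y = 1) →
    ∀ r ∈ R, (l.map tl).prod * r * ((l.map tl).prod)⁻¹ ∈ R ∧
      (∀ y ∈ R, (∀ x ∈ l, sg x y = 1) → sg y ((l.map tl).prod * r * ((l.map tl).prod)⁻¹) = sg y r) ∧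
      pr ((l.map tl).prod * r * ((l.map tl).prod)⁻¹) =
        (l.map fun x => if sg x r = 1 then 1 else pr x).prod * pr r := by
  intro l
  induction l with
  | nil => intro _ _ r hr; simp [hr]
  | cons a l ih =>
    intro hl hc r hr
    obtain ⟨hs, hsg, hp⟩ := ih (fun x hx => hl x (List.mem_cons_of_mem a hx))
      (fun x hx y hy => hc x (List.mem_cons_of_mem a hx) y (List.mem_cons_of_mem a hy)) r hr
    obtain ⟨ha, a2⟩ := hl a List.mem_cons_self
    obtain ⟨s, hs'⟩ : ∃ s, s = (l.map tl).prod * r * ((l.map tl).prod)⁻¹ := ⟨_, rfl⟩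
    rw [← hs'] at hs hsg hp
    have e : ((a :: l).map tl).prod * r * (((a :: l).map tl).prod)⁻¹ = tl a * s * (tl a)⁻¹ := by
      rw [hs', List.map_cons, List.prod_cons]; group
    have hsa : sg a s = sg a r := hsg a ha fun x hx => hc x (List.mem_cons_of_mem a hx) a List.mem_cons_self
    obtain ⟨f, m⟩ := tl_act h ha a2 hs
    rw [e, List.map_cons, List.prod_cons]
    by_cases e1 : sg a r = 1
    · rw [f (hsa.trans e1), if_pos e1, one_mul]
      exact ⟨hs, fun y hy hyl => hsg y hy fun x hx => hyl x (List.mem_cons_of_mem a hx), hp⟩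
    · have e2 : sg a r = -1 := by
        revert e1; unfold sg; split_ifs <;> simp
      rw [m (hsa.trans e2), if_neg e1, map_mul, hp, mul_assoc]
      refine ⟨mul_mem ha hs, fun y hy hyl => ?_, rfl⟩
      rw [sg_comm, h.sg_mul ha hs hy, hyl a List.mem_cons_self, one_mul, sg_comm,
        hsg y hy fun x hx => hyl x (List.mem_cons_of_mem a hx)]

/-- One commuting with a small subgroup of classes and outside it. -/
theorem exists_perp_out {W : Subgroup (PG κ E)} (hW : W ≤ R.map pr) {m : ℕ} (hm : Nat.card W ≤ m)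
    (hmn : m * m < Fintype.card κ * Fintype.card κ) :
    ∃ r ∈ R, (∀ x ∈ R, pr x ∈ W → sg r x = 1) ∧ pr r ∉ W := by
  classical
  haveI : Fintype (R.map (pr (ι := κ) (E := E))) := Fintype.ofFinite _
  have h1 := h.card_perp W hW
  have h2 := h.card_sq_le
  by_contra hc
  push Not at hc
  have hle : Nat.card {a : R.map (pr (ι := κ) (E := E)) // ∀ w ∈ W, pw a.1 w = 1} ≤ Nat.card W := by
    refine Nat.card_le_card_of_injective (fun a => ⟨a.1.1, ?_⟩) fun a b e => Subtype.ext (Subtype.ext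
      (congrArg Subtype.val e :))
    obtain ⟨⟨_, r, hr, rfl⟩, hp⟩ := a
    exact hc r hr fun x _ hxW => by rw [← pw_pr]; exact hp _ hxW
  have h3 := Nat.mul_le_mul (hle.trans hm) hm
  rw [h1] at h3
  omega

variable {L : Subgroup (GL κ E)} (hRL : R ≤ L)
  (hl : ∀ u ∈ R, ∀ v ∈ R, u * u = -1 → v * v = -1 → tl u * tl v ∈ L)
include hRL hl

open Classical in
/-- A single lift is a product of pairs of lifts and an element of the group. -/
theorem tl_mem (hd : 8 ≤ Fintype.card κ) {u : GL κ E} (hu : u ∈ R) (u2 : u * u = -1) : tl u ∈ L := by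
  haveI := h.nonempty
  have hU : pr u ∈ R.map pr := ⟨u, hu, rfl⟩
  have hsub1 : Subgroup.closure {pr u} ≤ R.map pr := (Subgroup.closure_le _).2 (Set.singleton_subset_iff.2 hU)
  obtain ⟨v₀, hv₀, hv₀c, -⟩ := exists_perp_out h hsub1 (m := 2) (by
    have e : ((Subgroup.closure {pr u} : Subgroup (PG κ E)) : Set (PG κ E)) ⊆ {1, pr u} := fun y hy => by
      simpa using h.closure_one hU hy
    have h3 := Set.ncard_le_ncard e (Set.toFinite _)
    rw [← Nat.card_coe_set_eq] at h3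
    exact h3.trans ((Set.ncard_insert_le _ _).trans (by rw [Set.ncard_singleton]))) (by nlinarith)
  obtain ⟨cv, v, hv, e_v, v2⟩ := h.scaled hv₀
  have uv : sg u v = 1 := by
    rw [sg_comm, ← sg_sc_left cv, ← e_v]; exact hv₀c u hu (Subgroup.subset_closure rfl)
  have hV : pr v ∈ R.map pr := ⟨v, hv, rfl⟩
  have hsub2 : Subgroup.closure {pr u, pr v} ≤ R.map pr :=
    (Subgroup.closure_le _).2 (Set.insert_subset hU (Set.singleton_subset_iff.2 hV))
  obtain ⟨w₀, hw₀, hw₀c, -⟩ := exists_perp_out h hsub2 (m := 4) (by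
    have e : ((Subgroup.closure {pr u, pr v} : Subgroup (PG κ E)) : Set (PG κ E)) ⊆ {1, pr u, pr v, pr u * pr v} :=
      fun y hy => by simpa using h.closure_two hU hV hy
    have h3 := Set.ncard_le_ncard e (Set.toFinite _)
    rw [← Nat.card_coe_set_eq] at h3
    refine h3.trans ?_
    refine (Set.ncard_insert_le _ _).trans (Nat.succ_le_succ ?_)
    refine (Set.ncard_insert_le _ _).trans (Nat.succ_le_succ ?_)
    exact (Set.ncard_insert_le _ _).trans (by rw [Set.ncard_singleton])) (by nlinarith)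
  obtain ⟨cw, w, hw, e_w, w2⟩ := h.scaled hw₀
  have uw : sg u w = 1 := by
    rw [sg_comm, ← sg_sc_left cw, ← e_w]; exact hw₀c u hu (Subgroup.subset_closure (by simp))
  have vw : sg v w = 1 := by
    rw [sg_comm, ← sg_sc_left cw, ← e_w]; exact hw₀c v hv (Subgroup.subset_closure (by simp))
  obtain ⟨c₄, x₄, h₄, e₄, q₄⟩ := h.scaled (mul_mem hu hv)
  obtain ⟨c₅, x₅, h₅, e₅, q₅⟩ := h.scaled (mul_mem hu hw)
  obtain ⟨c₆, x₆, h₆, e₆, q₆⟩ := h.scaled (mul_mem hv hw)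
  obtain ⟨c₇, x₇, h₇, e₇, q₇⟩ := h.scaled (mul_mem (mul_mem hu hv) hw)
  have s₄ : ∀ r ∈ R, sg x₄ r = sg u r * sg v r := fun r hr => by
    rw [← sg_sc_left c₄, ← e₄, h.sg_mul hu hv hr]
  have s₅ : ∀ r ∈ R, sg x₅ r = sg u r * sg w r := fun r hr => by
    rw [← sg_sc_left c₅, ← e₅, h.sg_mul hu hw hr]
  have s₆ : ∀ r ∈ R, sg x₆ r = sg v r * sg w r := fun r hr => by
    rw [← sg_sc_left c₆, ← e₆, h.sg_mul hv hw hr]
  have s₇ : ∀ r ∈ R, sg x₇ r = sg u r * sg v r * sg w r := fun r hr => by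
    rw [← sg_sc_left c₇, ← e₇, h.sg_mul (mul_mem hu hv) hw hr, h.sg_mul hu hv hr]
  have p₄ : pr x₄ = pr u * pr v := by rw [← map_mul, e₄, map_mul, pr_sc, one_mul]
  have p₅ : pr x₅ = pr u * pr w := by rw [← map_mul, e₅, map_mul, pr_sc, one_mul]
  have p₆ : pr x₆ = pr v * pr w := by rw [← map_mul, e₆, map_mul, pr_sc, one_mul]
  have p₇ : pr x₇ = pr u * pr v * pr w := by rw [← map_mul, ← map_mul, e₇, map_mul, pr_sc, one_mul]
  obtain ⟨l, hldef⟩ : ∃ l, l = [u, v, w, x₄, x₅, x₆, x₇] := ⟨_, rfl⟩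
  have base : ∀ y ∈ R, sg u y = 1 → sg v y = 1 → sg w y = 1 → ∀ x ∈ l, sg x y = 1 := fun y hy a b c x hx => by
    rw [hldef] at hx
    simp only [List.mem_cons, List.not_mem_nil, or_false] at hx
    rcases hx with rfl | rfl | rfl | rfl | rfl | rfl | rfl <;>
      simp [s₄ y hy, s₅ y hy, s₆ y hy, s₇ y hy, a, b, c]
  have hmem : ∀ x ∈ l, x ∈ R ∧ x * x = -1 := fun x hx => by
    rw [hldef] at hx
    simp only [List.mem_cons, List.not_mem_nil, or_false] at hx
    rcases hx with rfl | rfl | rfl | rfl | rfl | rfl | rfl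
    exacts [⟨hu, u2⟩, ⟨hv, v2⟩, ⟨hw, w2⟩, ⟨h₄, q₄⟩, ⟨h₅, q₅⟩, ⟨h₆, q₆⟩, ⟨h₇, q₇⟩]
  have hcomm : ∀ x ∈ l, ∀ y ∈ l, sg x y = 1 := fun x hx y hy => base y (hmem y hy).1
    (by rw [sg_comm]; exact base u hu (sg_self u) (by rw [sg_comm, uv]) (by rw [sg_comm, uw]) y hy)
    (by rw [sg_comm]; exact base v hv uv (sg_self v) (by rw [sg_comm, vw]) y hy)
    (by rw [sg_comm]; exact base w hw uw vw (sg_self w) y hy) x hx
  obtain ⟨g, hg⟩ : ∃ g, g = (l.map tl).prod := ⟨_, rfl⟩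
  have hgR : g ∈ R := by
    refine h.mem_of_signs fun r hr => ?_
    obtain ⟨-, -, hp⟩ := conj_list h l hmem hcomm r hr
    rw [← hg] at hp
    have hW : pr w ∈ R.map pr := ⟨w, hw, rfl⟩
    have e1 : pr (g * r * g⁻¹) = pr r := by
      rw [hp, hldef]
      have cvu := h.map_comm hV hU
      have cwu := h.map_comm hW hU
      have cwv := h.map_comm hW hV
      have cvu' : ∀ z : PG κ E, pr v * (pr u * z) = pr u * (pr v * z) := fun z => by rw [← mul_assoc, cvu, mul_assoc]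
      have cwu' : ∀ z : PG κ E, pr w * (pr u * z) = pr u * (pr w * z) := fun z => by rw [← mul_assoc, cwu, mul_assoc]
      have cwv' : ∀ z : PG κ E, pr w * (pr v * z) = pr v * (pr w * z) := fun z => by rw [← mul_assoc, cwv, mul_assoc]
      have u' : ∀ z : PG κ E, pr u * (pr u * z) = z := fun z => by rw [← mul_assoc, h.map_sq hU, one_mul]
      have v' : ∀ z : PG κ E, pr v * (pr v * z) = z := fun z => by rw [← mul_assoc, h.map_sq hV, one_mul]
      have w' : ∀ z : PG κ E, pr w * (pr w * z) = z := fun z => by rw [← mul_assoc, h.map_sq hW, one_mul]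
      have sc2 : ∀ a : GL κ E, sg a r = 1 ∨ sg a r = -1 := fun a => by unfold sg; split_ifs <;> simp
      rcases sc2 u with a | a <;> rcases sc2 v with b | b <;> rcases sc2 w with c | c <;>
        simp only [List.map_cons, List.map_nil, List.prod_cons, List.prod_nil, s₄ r hr, s₅ r hr, s₆ r hr, s₇ r hr,
          a, b, c, p₄, p₅, p₆, p₇, one_mul, mul_one, mul_neg, neg_neg, if_true,
          show ((-1 : ℤ) = 1) = False by simp, if_false, mul_assoc, cvu', cwu', cwv', u', v', w']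
    obtain ⟨c, hc⟩ := pr_eq_iff.1 e1.symm
    obtain ⟨k, hk⟩ := pr_eq_one_iff.1 (h.pr_sq hr)
    have e2 : g * (r * r) * g⁻¹ = sc c * r * (sc c * r) := by rw [← hc]; group
    have e3 : sc c * r * (sc c * r) = sc (c * c) * (r * r) := by
      rw [mul_assoc, ← mul_assoc r, ← sc_comm, mul_assoc (sc c) r r, ← mul_assoc, sc_mul]
    rw [e3, hk, ← sc_comm, mul_inv_cancel_right, eq_comm, mul_eq_right] at e2
    rcases sc_sq_one e2 with rfl | rfl
    · left; rwa [sc_one, one_mul, mul_inv_eq_iff_eq_mul] at hc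
    · right; rwa [sc_neg_one, neg_one_mul, mul_inv_eq_iff_eq_mul, neg_mul] at hc
  have e : g = tl u * (tl v * tl w * (tl x₄ * tl x₅) * (tl x₆ * tl x₇)) := by
    rw [hg, hldef]; simp [mul_assoc]
  have hrest : tl v * tl w * (tl x₄ * tl x₅) * (tl x₆ * tl x₇) ∈ L :=
    mul_mem (mul_mem (hl v hv w hw v2 w2) (hl x₄ h₄ x₅ h₅ q₄ q₅)) (hl x₆ h₆ x₇ h₇ q₆ q₇)
  have := mul_mem (hRL hgR) (inv_mem hrest)
  rwa [e, mul_inv_cancel_right] at this

/-- The normaliser is generated. -/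
theorem nm_mem (hd : 8 ≤ Fintype.card κ) {g : GL κ E} (hg : ∀ r ∈ R, g * r * g⁻¹ ∈ R) : g ∈ L := by
  classical
  haveI := h.nonempty
  suffices ∀ m : ℕ, ∀ g : GL κ E, (∀ r ∈ R, g * r * g⁻¹ ∈ R) →
      Nat.card R - {x : GL κ E | x ∈ R ∧ pr (g * x * g⁻¹) = pr x}.ncard ≤ m → g ∈ L from this _ g hg le_rfl
  intro m
  induction m using Nat.strong_induction_on with
  | _ m ih =>
  intro g hg hm
  by_cases hall : ∀ x ∈ R, pr (g * x * g⁻¹) = pr x
  · refine hRL (h.mem_of_signs fun r hr => ?_)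
    obtain ⟨c, hc⟩ := pr_eq_iff.1 (hall r hr).symm
    obtain ⟨k, hk⟩ := pr_eq_one_iff.1 (h.pr_sq hr)
    have e2 : g * (r * r) * g⁻¹ = sc c * r * (sc c * r) := by rw [← hc]; group
    have e3 : sc c * r * (sc c * r) = sc (c * c) * (r * r) := by
      rw [mul_assoc, ← mul_assoc r, ← sc_comm, mul_assoc (sc c) r r, ← mul_assoc, sc_mul]
    rw [e3, hk, ← sc_comm, mul_inv_cancel_right, eq_comm, mul_eq_right] at e2
    rcases sc_sq_one e2 with rfl | rfl
    · left; rwa [sc_one, one_mul, mul_inv_eq_iff_eq_mul] at hc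
    · right; rwa [sc_neg_one, neg_one_mul, mul_inv_eq_iff_eq_mul, neg_mul] at hc
  push Not at hall
  obtain ⟨a, ha, ha1⟩ := hall
  obtain ⟨a', ha'⟩ : ∃ a', a' = g * a * g⁻¹ := ⟨_, rfl⟩
  have ha'R : a' ∈ R := ha' ▸ hg a ha
  have hne : pr a' ≠ pr a := ha' ▸ ha1
  have hsg : ∀ x ∈ R, pr (g * x * g⁻¹) = pr x → sg a' x = sg a x := fun x _ hx => by
    obtain ⟨c, hc⟩ := pr_eq_iff.1 hx.symm
    rw [ha', ← sg_sc_right c (g * a * g⁻¹) x, ← hc, sg_conj_any]
  obtain ⟨S, hS⟩ : ∃ S : Set (GL κ E), S = {x : GL κ E | x ∈ R ∧ pr (g * x * g⁻¹) = pr x} := ⟨_, rfl⟩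
  rw [← hS] at hm
  have hnot : ∀ b ∈ R, pr (g * b * g⁻¹) ≠ pr b → pr b ∉ Subgroup.closure (pr '' S) := fun b _ hb hmem => hb (by
    have hle : Subgroup.closure (pr '' S) ≤ Subgroup.centralizer ({pr g} : Set (PG κ E)) := by
      refine (Subgroup.closure_le _).2 ?_
      rintro _ ⟨x, hx, rfl⟩
      rw [hS] at hx
      rw [SetLike.mem_coe, Subgroup.mem_centralizer_singleton_iff]
      have e := hx.2
      rw [map_mul, map_mul, map_inv, mul_inv_eq_iff_eq_mul] at e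
      exact e.symm
    have e := Subgroup.mem_centralizer_singleton_iff.1 (hle hmem)
    rw [map_mul, map_mul, map_inv, ← e, mul_inv_cancel_right])
  obtain ⟨l, hlL, hlR, hlfix, hla⟩ : ∃ l ∈ L, (∀ r ∈ R, l * r * l⁻¹ ∈ R) ∧
      (∀ x ∈ R, sg a' x = sg a x → (∀ y ∈ R, pr (g * y * g⁻¹) = pr y → sg a' y = sg a y) →
        pr (g * x * g⁻¹) = pr x → l * x * l⁻¹ = x) ∧ pr (l * a' * l⁻¹) = pr a := by
    have nmT : ∀ {x : GL κ E}, x ∈ R → x * x = -1 → ∀ r ∈ R, tl x * r * (tl x)⁻¹ ∈ R := fun {x} hx x2 r hr => by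
      rcases (by unfold sg; split_ifs <;> simp : sg x r = 1 ∨ sg x r = -1) with e | e
      · rw [(tl_act h hx x2 hr).1 e]; exact hr
      · rw [(tl_act h hx x2 hr).2 e]; exact mul_mem hx hr
    obtain ⟨c₁, x₁, hx₁, ex₁, x₁2⟩ := h.scaled (mul_mem ha'R ha)
    have s₁ : ∀ r ∈ R, sg x₁ r = sg a' r * sg a r := fun r hr => by
      rw [← sg_sc_left c₁, ← ex₁, h.sg_mul ha'R ha hr]
    rcases (by unfold sg; split_ifs <;> simp : sg a a' = 1 ∨ sg a a' = -1) with e | e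
    swap
    · refine ⟨tl x₁, tl_mem h hRL hl hd hx₁ x₁2, nmT hx₁ x₁2, fun x hx e1 _ _ => (tl_act h hx₁ x₁2 hx).1 ?_, ?_⟩
      · rw [s₁ x hx, e1]; rcases (by unfold sg; split_ifs <;> simp : sg a x = 1 ∨ sg a x = -1) with q | q <;> simp [q]
      · rw [(tl_act h hx₁ x₁2 ha'R).2 (by rw [s₁ a' ha'R, sg_self, e, one_mul])]
        have e4 : pr x₁ = pr a' * pr a := by rw [← map_mul, ex₁, map_mul, pr_sc, one_mul]
        rw [map_mul, e4, h.map_comm ⟨a', ha'R, rfl⟩ ⟨a, ha, rfl⟩, mul_assoc, h.map_sq ⟨a', ha'R, rfl⟩, mul_one]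
    · obtain ⟨d₀, hd₀, d₀S, d₀a⟩ := h.sep (S := S) (fun s hs => (hS ▸ hs : s ∈ R ∧ _).1) ha (hnot a ha ha1)
      obtain ⟨d₁, hd₁, d₁S, d₁a⟩ := h.sep (S := S) (fun s hs => (hS ▸ hs : s ∈ R ∧ _).1) ha'R (hnot a' ha'R (by
        intro e'
        apply hne
        rw [ha'] at e' ⊢
        simp only [map_mul, map_inv] at e' ⊢
        exact mul_left_cancel (mul_right_cancel e')))
      have neg1 : ∀ {p q : GL κ E}, p ∈ R → q ∈ R → p * q = -(q * p) → sg p q = -1 := fun _ _ e' =>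
        sg_ne_iff.2 (h.not_comm_of_anti e')
      obtain ⟨d', hd', d'S, d'a, d'a'⟩ : ∃ d ∈ R, (∀ s ∈ S, sg d s = 1) ∧ sg d a = -1 ∧ sg d a' = -1 := by
        have f0 : ∀ s ∈ S, sg d₀ s = 1 := fun s hs => sg_eq_one_iff.2 (d₀S s hs)
        have f1 : ∀ s ∈ S, sg d₁ s = 1 := fun s hs => sg_eq_one_iff.2 (d₁S s hs)
        rcases (by unfold sg; split_ifs <;> simp : sg d₀ a' = 1 ∨ sg d₀ a' = -1) with q | q
        swap
        · exact ⟨d₀, hd₀, f0, neg1 hd₀ ha d₀a, q⟩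
        rcases (by unfold sg; split_ifs <;> simp : sg d₁ a = 1 ∨ sg d₁ a = -1) with q' | q'
        swap
        · exact ⟨d₁, hd₁, f1, q', neg1 hd₁ ha'R d₁a⟩
        exact ⟨d₀ * d₁, mul_mem hd₀ hd₁, fun s hs => by
          rw [h.sg_mul hd₀ hd₁ (hS ▸ hs : s ∈ R ∧ _).1, f0 s hs, f1 s hs, one_mul],
          by rw [h.sg_mul hd₀ hd₁ ha, neg1 hd₀ ha d₀a, q']; norm_num,
          by rw [h.sg_mul hd₀ hd₁ ha'R, q, neg1 hd₁ ha'R d₁a]; norm_num⟩
      obtain ⟨c₂, d, hdR, ed, d2⟩ := h.scaled hd'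
      have sd : ∀ r : GL κ E, sg d r = sg d' r := fun r => by rw [← sg_sc_left c₂, ← ed]
      obtain ⟨c₃, x₂, hx₂, ex₂, x₂2⟩ := h.scaled (mul_mem (mul_mem ha'R ha) hdR)
      have s₂ : ∀ r ∈ R, sg x₂ r = sg a' r * sg a r * sg d r := fun r hr => by
        rw [← sg_sc_left c₃, ← ex₂, h.sg_mul (mul_mem ha'R ha) hdR hr, h.sg_mul ha'R ha hr]
      refine ⟨tl d * tl x₂, mul_mem (tl_mem h hRL hl hd hdR d2) (tl_mem h hRL hl hd hx₂ x₂2), fun r hr => ?_,
        fun x hx e1 _ e3 => ?_, ?_⟩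
      · rw [show tl d * tl x₂ * r * (tl d * tl x₂)⁻¹ = tl d * (tl x₂ * r * (tl x₂)⁻¹) * (tl d)⁻¹ by group]
        exact nmT hdR d2 _ (nmT hx₂ x₂2 r hr)
      · have hxS : x ∈ S := hS ▸ ⟨hx, e3⟩
        have hdx : sg d x = 1 := by rw [sd]; exact d'S x hxS
        rw [show tl d * tl x₂ * x * (tl d * tl x₂)⁻¹ = tl d * (tl x₂ * x * (tl x₂)⁻¹) * (tl d)⁻¹ by group,
          (tl_act h hx₂ x₂2 hx).1 (by
            rw [s₂ x hx, e1, hdx]
            rcases (by unfold sg; split_ifs <;> simp : sg a x = 1 ∨ sg a x = -1) with q | q <;> simp [q]),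
          (tl_act h hdR d2 hx).1 hdx]
      · have hda : sg d a = -1 := by rw [sd]; exact d'a
        have hda' : sg d a' = -1 := by rw [sd]; exact d'a'
        have hm1 : sg d (x₂ * a') = -1 := by
          rw [sg_comm, h.sg_mul hx₂ ha'R hdR, s₂ d hdR, sg_self, sg_comm a' d, sg_comm a d, hda, hda']; norm_num
        rw [show tl d * tl x₂ * a' * (tl d * tl x₂)⁻¹ = tl d * (tl x₂ * a' * (tl x₂)⁻¹) * (tl d)⁻¹ by group,
          (tl_act h hx₂ x₂2 ha'R).2 (by rw [s₂ a' ha'R, sg_self, e, hda']; norm_num),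
          (tl_act h hdR d2 (mul_mem hx₂ ha'R)).2 hm1]
        have e4 : pr x₂ = pr a' * pr a * pr d := by rw [← map_mul, ← map_mul, ex₂, map_mul, pr_sc, one_mul]
        have A' : pr a' ∈ R.map pr := ⟨a', ha'R, rfl⟩
        have A : pr a ∈ R.map pr := ⟨a, ha, rfl⟩
        have D : pr d ∈ R.map pr := ⟨d, hdR, rfl⟩
        rw [map_mul, map_mul, e4, h.map_comm A' A, mul_assoc (pr a), mul_assoc (pr a), h.map_comm A' D,
          mul_assoc (pr d) (pr a') (pr a'), h.map_sq A', mul_one, h.map_comm A D, ← mul_assoc, h.map_sq D, one_mul]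
  have hnm : ∀ r ∈ R, l * g * r * (l * g)⁻¹ ∈ R := fun r hr => by
    rw [show l * g * r * (l * g)⁻¹ = l * (g * r * g⁻¹) * l⁻¹ by group]; exact hlR _ (hg r hr)
  have hgrow : S ⊂ {x : GL κ E | x ∈ R ∧ pr (l * g * x * (l * g)⁻¹) = pr x} := by
    refine ⟨fun x hx => ?_, fun hsub => ?_⟩
    · rw [hS] at hx
      obtain ⟨hxR, hxe⟩ := hx
      refine ⟨hxR, ?_⟩
      obtain ⟨c, hc⟩ := pr_eq_iff.1 hxe.symm
      rw [show l * g * x * (l * g)⁻¹ = l * (g * x * g⁻¹) * l⁻¹ by group, hc, ← mul_assoc l, ← sc_comm, mul_assoc (sc c),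
        mul_assoc (sc c), hlfix x hxR (hsg x hxR hxe) hsg hxe, map_mul, pr_sc, one_mul]
    · have := hsub (show a ∈ {x : GL κ E | x ∈ R ∧ pr (l * g * x * (l * g)⁻¹) = pr x} from ⟨ha, by
        rw [show l * g * a * (l * g)⁻¹ = l * (g * a * g⁻¹) * l⁻¹ by group, ← ha', hla]⟩)
      rw [hS] at this
      exact ha1 this.2
  have hlt := Set.ncard_lt_ncard hgrow (Set.toFinite _)
  have hle : {x : GL κ E | x ∈ R ∧ pr (l * g * x * (l * g)⁻¹) = pr x}.ncard ≤ Nat.card R := by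
    have := Set.ncard_le_ncard (s := {x : GL κ E | x ∈ R ∧ pr (l * g * x * (l * g)⁻¹) = pr x})
      (t := (R : Set (GL κ E))) (fun x hx => hx.1) (Set.toFinite _)
    rwa [← Nat.card_coe_set_eq] at this
  have := ih (Nat.card R - {x : GL κ E | x ∈ R ∧ pr (l * g * x * (l * g)⁻¹) = pr x}.ncard) (by omega) (l * g) hnm le_rfl
  simpa using mul_mem (inv_mem hlL) this

end Cfsg.Agent.ClassicalMax.SympPlus
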