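import Cfsg.Agent.ClassicalMax.SympPlus.Basic

/-!
An involution and an anticommuting one: an element acting trivially on the fixed space is recorded by the element
doing on both eigenspaces what it does on the other one; the elements so recorded form a group.
-/

set_option autoImplicit false
set_option linter.unusedSectionVars false

namespace Cfsg.Agent.ClassicalMax.SympPlus

open Matrix SympType SympMinus

variable {ι : Type*} [Fintype ι] [DecidableEq ι] {E : Type*} [Field E] [Finite E]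

local notation "M" => Matrix ι ι E

/-- Two elements agreeing on both eigenspaces are equal. -/
theorem eq_of_parts (h2 : (2 : E) ≠ 0) (x : M) {a b : M} (hp : (1 + x) * a = (1 + x) * b)
    (hm : (1 - x) * a = (1 - x) * b) : a = b := by
  have e := congrArg₂ (· + ·) hp hm
  simp only [← add_mul] at e
  rw [add_add_sub_cancel, ← two_smul E (1 : M), Matrix.smul_mul, Matrix.smul_mul, one_mul, one_mul] at e
  exact smul_right_injective M h2 e

/-- What one element does on the fixed space and the other on the negated one. -/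
noncomputable def cmbM (x g k : M) : M := (2 : E)⁻¹ • ((1 + x) * g + (1 - x) * k)

theorem cmbM_parts (h2 : (2 : E) ≠ 0) {x : M} (x2 : x * x = 1) (g k : M) :
    (1 + x) * cmbM x g k = (1 + x) * g ∧ (1 - x) * cmbM x g k = (1 - x) * k := by
  have e1 : (1 + x) * (1 + x) = (2 : E) • (1 + x) := by
    simp only [add_mul, mul_add, mul_add, x2, one_mul, mul_one, two_smul]; abel
  have e2 : (1 + x) * (1 - x) = 0 := by simp only [add_mul, mul_sub, x2, one_mul, mul_one]; abel
  have e3 : (1 - x) * (1 + x) = 0 := by simp only [sub_mul, mul_add, x2, one_mul, mul_one]; abel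
  have e4 : (1 - x) * (1 - x) = (2 : E) • (1 - x) := by
    simp only [sub_mul, mul_sub, mul_sub, x2, one_mul, mul_one, two_smul]; abel
  constructor <;>
    simp only [cmbM, Matrix.mul_smul, mul_add, ← Matrix.mul_assoc, e1, e2, e3, e4, Matrix.zero_mul, add_zero, zero_add,
      Matrix.smul_mul, smul_smul, inv_mul_cancel₀ h2, one_smul]

theorem part_comm {x : M} {g : GL ι E} (hg : (g : M) * x = x * g) :
    (g : M) * (1 + x) = (1 + x) * g ∧ (g : M) * (1 - x) = (1 - x) * g := by
  constructor <;> simp only [mul_add, add_mul, mul_sub, sub_mul, mul_one, one_mul, hg]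

/-- The eigenspaces of an involution of isometries are orthogonal. -/
theorem cmb_iso {J : M} (h2 : (2 : E) ≠ 0) {x g k γ : GL ι E} (hx : x ∈ Iso J) (x2 : x * x = 1) (hg : g ∈ Iso J)
    (hk : k ∈ Iso J) (hgx : g * x = x * g) (hkx : k * x = x * k)
    (e : (γ : M) = cmbM (x : M) g k) : γ ∈ Iso J := by
  have X2 : (x : M) * x = 1 := by rw [← Units.val_mul, x2, Units.val_one]
  have hxJ : (x : M)ᵀ * J = J * x := by
    have := mem_iso.1 hx
    calc (x : M)ᵀ * J = (x : M)ᵀ * J * ((x : M) * x) := by rw [X2, mul_one]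
      _ = _ := by rw [← Matrix.mul_assoc, this]
  have gx : (g : M) * x = x * g := congrArg Units.val hgx
  have kx : (k : M) * x = x * k := congrArg Units.val hkx
  obtain ⟨h1, h1'⟩ := part_comm gx
  obtain ⟨h3, h3'⟩ := part_comm kx
  have pT : ((1 : M) + (x : M))ᵀ * J = J * (1 + (x : M)) := by
    rw [transpose_add, transpose_one, add_mul, mul_add, hxJ, one_mul, mul_one]
  have qT : ((1 : M) - (x : M))ᵀ * J = J * (1 - (x : M)) := by
    rw [transpose_sub, transpose_one, sub_mul, mul_sub, hxJ, one_mul, mul_one]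
  obtain ⟨c1, c2⟩ := cmbM_parts h2 X2 (g : M) (k : M)
  have gT : (γ : M)ᵀ * J = (2 : E)⁻¹ • ((g : M)ᵀ * J * (1 + (x : M)) + (k : M)ᵀ * J * (1 - (x : M))) := by
    rw [e, cmbM, transpose_smul, transpose_add, transpose_mul, transpose_mul, Matrix.smul_mul, add_mul,
      Matrix.mul_assoc, Matrix.mul_assoc, pT, qT, ← Matrix.mul_assoc, ← Matrix.mul_assoc]
  rw [mem_iso, gT, Matrix.smul_mul, add_mul, Matrix.mul_assoc _ (1 + (x : M)), Matrix.mul_assoc _ (1 - (x : M)), e, c1,
    c2, ← h1, ← h3', ← Matrix.mul_assoc, ← Matrix.mul_assoc, mem_iso.1 hg, mem_iso.1 hk, ← mul_add,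
    add_add_sub_cancel, ← two_smul E (1 : M), Matrix.mul_smul, mul_one, smul_smul, inv_mul_cancel₀ h2, one_smul]

/-- A unit doing one thing on each eigenspace. -/
theorem exists_cmb {x g k : GL ι E} (h2 : (2 : E) ≠ 0) (x2 : x * x = 1) (hgx : g * x = x * g) (hkx : k * x = x * k) :
    ∃ γ : GL ι E, (γ : M) = cmbM (x : M) g k := by
  have X2 : (x : M) * x = 1 := by rw [← Units.val_mul, x2, Units.val_one]
  have inv : ∀ g k : GL ι E, g * x = x * g → k * x = x * k →
      cmbM (x : M) g k * cmbM (x : M) ((g⁻¹ : GL ι E) : M) ((k⁻¹ : GL ι E) : M) = 1 := fun g k hgx hkx => by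
    obtain ⟨c1, c2⟩ := cmbM_parts h2 X2 (g : M) (k : M)
    obtain ⟨d1, d2⟩ := cmbM_parts h2 X2 ((g⁻¹ : GL ι E) : M) ((k⁻¹ : GL ι E) : M)
    obtain ⟨h1, -⟩ := part_comm (x := (x : M)) (g := g) (congrArg Units.val hgx)
    obtain ⟨-, h3⟩ := part_comm (x := (x : M)) (g := k) (congrArg Units.val hkx)
    refine eq_of_parts h2 (x : M) ?_ ?_
    · rw [← Matrix.mul_assoc, c1, ← h1, Matrix.mul_assoc, d1, ← Matrix.mul_assoc, h1, Matrix.mul_assoc, Units.mul_inv]
    · rw [← Matrix.mul_assoc, c2, ← h3, Matrix.mul_assoc, d2, ← Matrix.mul_assoc, h3, Matrix.mul_assoc, Units.mul_inv]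
  exact ⟨⟨cmbM (x : M) g k, cmbM (x : M) ((g⁻¹ : GL ι E) : M) ((k⁻¹ : GL ι E) : M), inv g k hgx hkx,
    mul_eq_one_comm.1 (inv g k hgx hkx)⟩, rfl⟩

/-- The element does the same on the negated space as the recorded one, and nothing on the fixed space. -/
structure Half (x b β : GL ι E) : Prop where
  bx : b * x = x * b
  plus : (1 + (x : M)) * b = 1 + (x : M)
  minus : (1 - (x : M)) * b = (1 - (x : M)) * β

theorem Half.unique (h2 : (2 : E) ≠ 0) {x b b' β : GL ι E} (h : Half x b β) (h' : Half x b' β) : b = b' :=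
  Units.ext (eq_of_parts h2 (x : M) (h.plus.trans h'.plus.symm) (h.minus.trans h'.minus.symm))

/-- Commuting with both. -/
def Cxy (x y β : GL ι E) : Prop := β * x = x * β ∧ β * y = y * β

theorem comm_inv {a b : GL ι E} (h : a * b = b * a) : a⁻¹ * b = b * a⁻¹ := by
  rw [inv_mul_eq_iff_eq_mul, ← mul_assoc, h, mul_inv_cancel_right]

theorem Cxy.mul {x y a b : GL ι E} (ha : Cxy x y a) (hb : Cxy x y b) : Cxy x y (a * b) :=
  ⟨by rw [mul_assoc, hb.1, ← mul_assoc, ha.1, mul_assoc], by rw [mul_assoc, hb.2, ← mul_assoc, ha.2, mul_assoc]⟩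

theorem Cxy.inv {x y a : GL ι E} (ha : Cxy x y a) : Cxy x y a⁻¹ := ⟨comm_inv ha.1, comm_inv ha.2⟩

variable {J : Matrix ι ι E} {R K : Subgroup (GL ι E)} {x y : GL ι E} (hO : Over J R K)

/-- An involution and an anticommuting one of the group. -/
structure Frame2 (R : Subgroup (GL ι E)) (x y : GL ι E) : Prop where
  hx : x ∈ R
  hy : y ∈ R
  x2 : x * x = 1
  y2 : y * y = 1
  anti : x * y = -(y * x)

theorem Frame2.yx (hF : Frame2 R x y) : (y : M) * (1 + x) = (1 - (x : M)) * y ∧ (y : M) * (1 - x) = (1 + (x : M)) * y := by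
  have e : (x : M) * y = -((y : M) * x) := congrArg Units.val hF.anti
  constructor <;> simp only [mul_add, mul_sub, add_mul, sub_mul, mul_one, one_mul, e, sub_neg_eq_add, ← sub_eq_add_neg]

/-- The recorded elements of an overgroup. -/
def Lam (hF : Frame2 R x y) (K : Subgroup (GL ι E)) : Subgroup (GL ι E) where
  carrier := {β | Cxy x y β ∧ ∃ b ∈ K, Half x b β}
  one_mem' := ⟨⟨by simp, by simp⟩, 1, one_mem K, by simp, by simp, rfl⟩
  mul_mem' := by
    rintro β β' ⟨hβ, b, hb, h⟩ ⟨hβ', b', hb', h'⟩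
    refine ⟨hβ.mul hβ', b * b', mul_mem hb hb', ?_, ?_, ?_⟩
    · rw [mul_assoc, h'.bx, ← mul_assoc, h.bx, mul_assoc]
    · rw [Units.val_mul, ← Matrix.mul_assoc, h.plus, h'.plus]
    · obtain ⟨-, e⟩ := part_comm (x := (x : M)) (g := β) (congrArg Units.val hβ.1)
      rw [Units.val_mul, ← Matrix.mul_assoc, h.minus, ← e, Matrix.mul_assoc, h'.minus, ← Matrix.mul_assoc, e,
        Matrix.mul_assoc, ← Units.val_mul]
  inv_mem' := by
    rintro β ⟨hβ, b, hb, h⟩
    refine ⟨hβ.inv, b⁻¹, inv_mem hb, comm_inv h.bx, ?_, ?_⟩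
    · conv_lhs => rw [← h.plus]
      rw [Matrix.mul_assoc, Units.mul_inv, mul_one]
    · obtain ⟨-, e⟩ := part_comm (x := (x : M)) (g := β) (congrArg Units.val hβ.1)
      obtain ⟨-, e'⟩ := part_comm (x := (x : M)) (g := β⁻¹) (congrArg Units.val hβ.inv.1)
      calc (1 - (x : M)) * ((b⁻¹ : GL ι E) : M)
          = ((β⁻¹ : GL ι E) : M) * ((β : M) * (1 - x)) * ((b⁻¹ : GL ι E) : M) := by
            rw [Units.inv_mul_cancel_left]
        _ = ((β⁻¹ : GL ι E) : M) * (1 - x) := by
            rw [e, ← h.minus, ← Matrix.mul_assoc, Matrix.mul_assoc, Units.mul_inv, mul_one]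
        _ = _ := e'

include hO

theorem mem_of_half (hF : Frame2 R x y) {b β : GL ι E} (hβ : Cxy x y β) (hb : b ∈ K) (h : Half x b β) :
    β ∈ Lam hF K := ⟨hβ, b, hb, h⟩

/-- An element of the overgroup trivial on the fixed space is recorded. -/
theorem exists_rec (hF : Frame2 R x y) {b : GL ι E} (hb : b ∈ K) (hbx : b * x = x * b)
    (hp : (1 + (x : M)) * b = 1 + (x : M)) : ∃ β ∈ Lam hF K, Half x b β := by
  have h2 := hO.sr.two
  obtain ⟨yx1, yx2⟩ := hF.yx
  have Y2 : (y : M) * y = 1 := by rw [← Units.val_mul, hF.y2, Units.val_one]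
  obtain ⟨b', hb'⟩ : ∃ b', b' = y * b * y := ⟨_, rfl⟩
  have hb'x : b' * x = x * b' := by
    have e1 : y * x = -(x * y) := by rw [hF.anti, neg_neg]
    have e2 : x * y = -(y * x) := hF.anti
    calc b' * x = y * b * (y * x) := by rw [hb']; simp only [mul_assoc]
      _ = -(y * (b * x) * y) := by rw [e1, mul_neg]; simp only [mul_assoc]
      _ = -(y * x * (b * y)) := by rw [hbx]; simp only [mul_assoc]
      _ = x * b' := by rw [e1, hb', neg_mul, neg_neg]; simp only [mul_assoc]
  have hm' : (1 - (x : M)) * b' = 1 - (x : M) := by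
    rw [hb', Units.val_mul, Units.val_mul, ← Matrix.mul_assoc, ← Matrix.mul_assoc, ← yx1, Matrix.mul_assoc (y : M),
      hp, yx1, Matrix.mul_assoc, Y2, mul_one]
  obtain ⟨-, q1⟩ := part_comm (x := (x : M)) (g := b) (congrArg Units.val hbx)
  obtain ⟨p1, -⟩ := part_comm (x := (x : M)) (g := b') (congrArg Units.val hb'x)
  obtain ⟨p0, -⟩ := part_comm (x := (x : M)) (g := b) (congrArg Units.val hbx)
  obtain ⟨-, q0⟩ := part_comm (x := (x : M)) (g := b') (congrArg Units.val hb'x)
  have hcomm : b' * b = b * b' := Units.ext (eq_of_parts h2 (x : M)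
    (by rw [Units.val_mul, Units.val_mul, ← Matrix.mul_assoc, ← p1, Matrix.mul_assoc, hp, p1, ← Matrix.mul_assoc, hp])
    (by rw [Units.val_mul, Units.val_mul, ← Matrix.mul_assoc, hm', ← Matrix.mul_assoc, ← q1, Matrix.mul_assoc, hm', q1]))
  refine ⟨b' * b, ⟨⟨by rw [mul_assoc, hbx, ← mul_assoc, hb'x, mul_assoc], ?_⟩, b, hb, hbx, hp, ?_⟩, hbx, hp, ?_⟩
  · have e : b' * y = y * b := by rw [hb', mul_assoc, hF.y2, mul_one]
    calc b' * b * y = b * (b' * y) := by rw [hcomm, mul_assoc]
      _ = b * (y * b) := by rw [e]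
      _ = y * (y * b * y) * b := by
          rw [show y * (y * b * y) * b = y * y * b * y * b by simp only [mul_assoc], hF.y2, one_mul, mul_assoc]
      _ = y * (b' * b) := by rw [hb', mul_assoc]
  · rw [Units.val_mul, ← Matrix.mul_assoc, hm']
  · rw [Units.val_mul, ← Matrix.mul_assoc, hm']

theorem lam_le (hF : Frame2 R x y) {β : GL ι E} (hβ : β ∈ Lam hF K) : β ∈ K := by
  obtain ⟨hc, b, hb, h⟩ := hβ
  obtain ⟨yx1, yx2⟩ := hF.yx
  have hy := hO.rle hF.hy
  suffices β = b * (y * b * y) from this ▸ mul_mem hb (mul_mem (mul_mem hy hb) hy)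
  have Y2 : (y : M) * y = 1 := by rw [← Units.val_mul, hF.y2, Units.val_one]
  have Yb : (y : M) * β = β * y := (congrArg Units.val hc.2).symm
  obtain ⟨p0, q0⟩ := part_comm (x := (x : M)) (g := b) (congrArg Units.val h.bx)
  refine Units.ext (eq_of_parts hO.sr.two (x : M) ?_ ?_)
  · simp only [Units.val_mul, ← Matrix.mul_assoc]
    rw [h.plus, ← yx2, Matrix.mul_assoc (y : M), h.minus, ← Matrix.mul_assoc (y : M), yx2,
      Matrix.mul_assoc _ (y : M) (β : M), Yb, Matrix.mul_assoc, Matrix.mul_assoc (β : M), Y2, mul_one]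
  · simp only [Units.val_mul, ← Matrix.mul_assoc]
    rw [← q0, Matrix.mul_assoc (b : M), ← yx1, ← Matrix.mul_assoc (b : M), Matrix.mul_assoc _ (1 + (x : M)), h.plus,
      Matrix.mul_assoc (b : M), yx1, ← Matrix.mul_assoc (b : M), q0, Matrix.mul_assoc, Y2, mul_one, h.minus]

end Cfsg.Agent.ClassicalMax.SympPlus
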