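import Cfsg.Agent.ClassicalMax.SympPlus.Elem

/-!
Centralisers of involutions normalise when those of elements of square minus one do.
-/

set_option autoImplicit false
set_option linter.unusedSectionVars false

namespace Cfsg.Agent.ClassicalMax.SympPlus

open Matrix SympType SympMinus
open scoped commutatorElement

variable {ι : Type*} [Fintype ι] [DecidableEq ι] {E : Type*} [Field E] [Finite E]

local notation "M" => Matrix ι ι E

variable {J : Matrix ι ι E} {R K : Subgroup (GL ι E)} {x y : GL ι E} (hO : Over J R K) (hF : Frame2 R x y)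
  (hN : Neg R K)
include hO hF hN

set_option maxHeartbeats 800000 in
theorem invol_cent {g : GL ι E} (hg : g ∈ K) (hgx : g * x = x * g) : Nm R g := by
  have h := hO.sr
  have P := hF.pair hO
  have hX2 : (x : M) * x = 1 := by rw [← Units.val_mul, hF.x2, Units.val_one]
  have Y2 : (y : M) * y = 1 := by rw [← Units.val_mul, hF.y2, Units.val_one]
  obtain ⟨yx1, yx2⟩ := hF.yx
  have hyK := hO.rle hF.hy
  have exy : y * x = -(x * y) := by rw [hF.anti, neg_neg]
  have swx : ∀ a : GL ι E, a * x = x * a → y * a * y * x = x * (y * a * y) := fun a e => by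
    calc y * a * y * x = y * a * (y * x) := by simp only [mul_assoc]
      _ = -(y * (a * x) * y) := by rw [exy, mul_neg]; simp only [mul_assoc]
      _ = -(y * x * (a * y)) := by rw [e]; simp only [mul_assoc]
      _ = x * (y * a * y) := by rw [exy, neg_mul, neg_neg]; simp only [mul_assoc]
  -- on the negated space conjugation stays in the two-group
  have key : ∀ k ∈ K, k * x = x * k → ∀ c ∈ R, Cxy x y c →
      ∃ c' ∈ R, Cxy x y c' ∧ (1 - (x : M)) * ((k * c * k⁻¹ : GL ι E) : M) = (1 - (x : M)) * (c' : M) := by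
    intro k hk hkx c hc hcc
    obtain ⟨b, hb, -, H⟩ := exists_half hO hF hc hcc
    have H' := H.conj hkx
    obtain ⟨c', hc', H''⟩ := exists_rec hO hF (mul_mem (mul_mem hk hb) (inv_mem hk)) H'.bx H'.plus
    exact ⟨c', lam_sub hO hF hN hc', hc'.1, H'.minus.symm.trans H''.minus⟩
  obtain ⟨g', hg'⟩ : ∃ g', g' = y * g * y := ⟨_, rfl⟩
  have hg'K : g' ∈ K := hg' ▸ mul_mem (mul_mem hyK hg) hyK
  have hg'x : g' * x = x * g' := hg' ▸ swx g hgx
  obtain ⟨p, -⟩ := part_comm (x := (x : M)) (g := g) (congrArg Units.val hgx)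
  obtain ⟨p', -⟩ := part_comm (x := (x : M)) (g := g') (congrArg Units.val hg'x)
  obtain ⟨δ, hδ⟩ := exists_cmb h.two hF.x2 hgx hg'x
  obtain ⟨γ, hγ⟩ := exists_cmb (k := (1 : GL ι E)) h.two hF.x2 hgx (by simp)
  obtain ⟨d1, d2⟩ := cmbM_parts h.two hX2 (g : M) (g' : M)
  obtain ⟨c1, c2⟩ := cmbM_parts h.two hX2 (g : M) ((1 : GL ι E) : M)
  rw [← hδ] at d1 d2
  rw [← hγ, Units.val_one, mul_one] at c2
  rw [← hγ] at c1
  have cx : ∀ {a k k' : GL ι E}, (1 + (x : M)) * a = (1 + (x : M)) * k → (1 - (x : M)) * a = (1 - (x : M)) * k' →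
      k * x = x * k → k' * x = x * k' → a * x = x * a := by
    intro a k k' e1 e2 f1 f2
    have xp : (x : M) * (1 + x) = 1 + (x : M) := by rw [mul_add, mul_one, hX2, add_comm]
    have xm : (x : M) * (1 - x) = -(1 - (x : M)) := by rw [mul_sub, mul_one, hX2, neg_sub]
    have px : (1 + (x : M)) * x = 1 + (x : M) := by rw [add_mul, one_mul, hX2, add_comm]
    have mx : (1 - (x : M)) * x = -(1 - (x : M)) := by rw [sub_mul, one_mul, hX2, neg_sub]
    refine Units.ext (eq_of_parts h.two (x : M) ?_ ?_) <;> simp only [Units.val_mul, ← Matrix.mul_assoc]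
    · rw [px, e1, Matrix.mul_assoc, show (k : M) * x = x * k from congrArg Units.val f1, ← Matrix.mul_assoc, px]
    · rw [mx, e2, Matrix.mul_assoc, show (k' : M) * x = x * k' from congrArg Units.val f2, ← Matrix.mul_assoc, mx,
        neg_mul, neg_mul, e2]
  have hδx : δ * x = x * δ := cx d1 d2 hgx hg'x
  have hγx : γ * x = x * γ := cx (k' := 1) c1 (by rw [c2, Units.val_one, mul_one]) hgx (by simp)
  have hδy : δ * y = y * δ := by
    refine Units.ext (eq_of_parts h.two (x : M) ?_ ?_) <;> simp only [Units.val_mul, ← Matrix.mul_assoc]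
    · rw [d1, ← yx2, Matrix.mul_assoc (y : M), d2, hg', Units.val_mul, Units.val_mul]
      simp only [← Matrix.mul_assoc]
      rw [yx2, Matrix.mul_assoc (1 + (x : M)) (y : M) (y : M), Y2, mul_one]
    · rw [d2, ← yx1, Matrix.mul_assoc (y : M), d1, hg', Units.val_mul, Units.val_mul]
      simp only [← Matrix.mul_assoc]
      rw [Matrix.mul_assoc _ (y : M) (y : M), Y2, mul_one, ← yx1]
  have hδγ : δ = γ * (y * γ * y) := by
    refine Units.ext (eq_of_parts h.two (x : M) ?_ ?_) <;> simp only [Units.val_mul, ← Matrix.mul_assoc]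
    · rw [d1, c1, ← p, Matrix.mul_assoc (g : M), ← yx2, ← Matrix.mul_assoc (g : M),
        Matrix.mul_assoc ((g : M) * (y : M)), c2, Matrix.mul_assoc (g : M) (y : M), yx2, ← Matrix.mul_assoc,
        Matrix.mul_assoc _ (y : M) (y : M), Y2, mul_one, p]
    · rw [d2, c2, ← yx1, Matrix.mul_assoc (y : M) _ (γ : M), c1, hg', Units.val_mul, Units.val_mul]
      simp only [← Matrix.mul_assoc]
      rw [yx1]
  have hgI := hO.kle hg
  have hγI : γ ∈ Iso J := cmb_iso h.two (hO.le hF.hx) hF.x2 hgI (one_mem _) hgx (by simp) hγ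
  have hδO : δ ∈ Om J := by
    rw [hδγ, show γ * (y * γ * y) = γ * γ * ⁅γ⁻¹, y⁆ by
      rw [commutatorElement_def, inv_eq_of_mul_eq_one_right hF.y2]; group]
    exact mul_mem (hO.sq γ hγI) (Subgroup.commutator_mem_commutator (inv_mem hγI) (hO.le hF.hy))
  have conjC : ∀ c ∈ R, Cxy x y c → δ * c * δ⁻¹ ∈ R := by
    intro c hc hcc
    obtain ⟨u, hu, huc, eu⟩ := key g' hg'K hg'x c hc hcc
    suffices δ * c = u * δ by rw [mul_inv_eq_iff_eq_mul.2 this]; exact hu
    obtain ⟨-, qd⟩ := part_comm (x := (x : M)) (g := g') (congrArg Units.val hg'x)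
    refine eq_of_minus hO hF ((Cxy.mul ⟨hδx, hδy⟩ hcc).2) ((Cxy.mul huc ⟨hδx, hδy⟩).2) ?_
    have e1 := congrArg (fun z => z * (g' : M)) eu
    simp only [Units.val_mul, Matrix.mul_assoc, Units.inv_mul, mul_one] at e1
    obtain ⟨-, qu⟩ := part_comm (x := (x : M)) (g := u) (congrArg Units.val huc.1)
    rw [Units.val_mul, Units.val_mul, ← Matrix.mul_assoc, d2, Matrix.mul_assoc, e1, ← Matrix.mul_assoc,
      ← Matrix.mul_assoc, ← qu, Matrix.mul_assoc, ← d2, ← Matrix.mul_assoc]
  have hδn : Nm R δ := by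
    intro r hr
    obtain ⟨i, hi, e1, e2⟩ := h.proj P hr
    have hiR := h.four_mem P hi
    have e3 : δ * i = i * δ := by
      rcases hi with rfl | rfl | rfl | rfl
      exacts [by simp, hδx, hδy, by rw [← mul_assoc, hδx, mul_assoc, hδy, mul_assoc]]
    have : δ * r * δ⁻¹ = δ * (r * i) * δ⁻¹ * i⁻¹ := by
      rw [mul_assoc (δ * (r * i)), (show δ⁻¹ * i⁻¹ = i⁻¹ * δ⁻¹ by rw [← _root_.mul_inv_rev, ← _root_.mul_inv_rev, e3])]
      group
    rw [this]
    exact mul_mem (conjC _ (mul_mem hr hiR) ((cxy_iff hO hF).2 ⟨e1, e2⟩)) (inv_mem hiR)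
  have hδK := hO.knm δ hδO hδn
  obtain ⟨b, hb⟩ : ∃ b, b = δ⁻¹ * g := ⟨_, rfl⟩
  have hbx : b * x = x * b := by rw [hb, mul_assoc, hgx, ← mul_assoc, comm_inv hδx, mul_assoc]
  have hbp : (1 + (x : M)) * b = 1 + (x : M) := by
    have e1 : (1 + (x : M)) * ((δ⁻¹ : GL ι E) : M) = ((δ⁻¹ : GL ι E) : M) * (1 + (x : M)) :=
      ((part_comm (x := (x : M)) (g := δ⁻¹) (congrArg Units.val (comm_inv hδx))).1).symm
    rw [hb, Units.val_mul, ← Matrix.mul_assoc, e1, Matrix.mul_assoc, ← d1, ← Matrix.mul_assoc, ← e1,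
      Matrix.mul_assoc, Units.inv_mul, mul_one]
  obtain ⟨u, hu, H⟩ := exists_rec hO hF (hb ▸ mul_mem (inv_mem hδK) hg) hbx hbp
  obtain ⟨b', -, hb'n, H'⟩ := exists_half hO hF (lam_sub hO hF hN hu) hu.1
  have : Nm R (δ * b) := hδn.mul ((H.unique h.two H') ▸ hb'n)
  rwa [hb, mul_inv_cancel_left] at this

omit hF in
/-- Centralisers of involutions normalise. -/
theorem neg_all (hx : x ∈ R) (x2 : x * x = 1) (x1 : NC x) : ∀ g ∈ K, g * x = x * g → Nm R g := by
  obtain ⟨y, hy, y2, e⟩ := hO.sr.exists_invol_anti hx x2 x1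
  exact fun g hg hgx => invol_cent hO ⟨hx, hy, x2, y2, e⟩ hN hg hgx

omit hF in
/-- If the centralisers of elements of square minus one normalise then everything does. -/
theorem nm_all : ∀ g ∈ K, Nm R g := by
  have h := hO.sr
  refine h.normal_of_cents hO.jne hO.le hO.kle hO.rle (fun v hv w hw v2 w2 => hO.lp_mem hv hw v2 w2)
    (by have := hO.dim; omega) fun x hx x1 g hg e => ?_
  rcases h.sq x hx with x2 | x2
  · exact neg_all hO hN hx x2 x1 g hg e
  · exact hN x hx x2 g hg e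

end Cfsg.Agent.ClassicalMax.SympPlus
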