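import Cfsg.Agent.ClassicalMax.SympMinus.Lifts

/-!
Matrices commuting with the centraliser of an element of square minus one are in the span of one and it.
-/

set_option autoImplicit false
set_option linter.unusedSectionVars false

namespace Cfsg.Agent.ClassicalMax.SympPlus

open Matrix SympType SympMinus

variable {ι : Type*} [Fintype ι] [DecidableEq ι] {E : Type*} [Field E] [Finite E]

local notation "M" => Matrix ι ι E

theorem span_of_cent {R : Subgroup (GL ι E)} (h : SR R) {a : GL ι E} (ha : a ∈ R) (a2 : a * a = -1) {W : M}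
    (hW : ∀ r ∈ R, r * a = a * r → W * (r : M) = r * W) : ∃ α β : E, W = α • 1 + β • (a : M) := by
  obtain ⟨y, hy, hay⟩ := h.exists_anti ha (h.nc_of_neg a2)
  have hay' := (h.sg_neg_iff ha hy).1 hay
  have A2 := h.sq_val a2
  have AY : (a : M) * y = -((y : M) * a) := congrArg Units.val hay'
  obtain ⟨W', hW'⟩ : ∃ W', W' = (y : M) * W * ((y⁻¹ : GL ι E) : M) := ⟨_, rfl⟩
  have hW'y : (y : M) * W' * ((y⁻¹ : GL ι E) : M) = W := by
    rw [hW', show (y : M) * ((y : M) * W * ((y⁻¹ : GL ι E) : M)) * ((y⁻¹ : GL ι E) : M) =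
      ((y * y : GL ι E) : M) * W * (((y * y)⁻¹ : GL ι E) : M) by
        rw [_root_.mul_inv_rev, Units.val_mul, Units.val_mul]; simp only [Matrix.mul_assoc]]
    rcases h.sq y hy with e | e <;> rw [e] <;> simp
  have hW'C : ∀ r ∈ R, r * a = a * r → W' * (r : M) = r * W' := by
    intro r hr hra
    have key : ((y⁻¹ * r * y : GL ι E) : M) * W = W * ((y⁻¹ * r * y : GL ι E) : M) := by
      rcases h.comm r hr y hy with e | e
      · rw [show y⁻¹ * r * y = r by rw [mul_assoc, e, inv_mul_cancel_left]]; exact (hW r hr hra).symm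
      · rw [show y⁻¹ * r * y = -r by rw [mul_assoc, e, mul_neg, inv_mul_cancel_left], Units.val_neg, Matrix.neg_mul,
          Matrix.mul_neg, hW r hr hra]
    have k1 := congrArg (fun Z => (y : M) * Z * ((y⁻¹ : GL ι E) : M)) key
    simp only [Units.val_mul, Matrix.mul_assoc, Units.mul_inv_cancel_left, Units.mul_inv, Matrix.mul_one] at k1
    rw [hW']
    simpa [Matrix.mul_assoc] using k1.symm
  have hall : ∀ S : M, (∀ r ∈ R, r * a = a * r → S * (r : M) = r * S) →
      (y : M) * S * ((y⁻¹ : GL ι E) : M) = S → ∃ c : E, S = c • 1 := by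
    intro S hSC hSy
    have hSy' : S * (y : M) = (y : M) * S := by
      conv_lhs => rw [← hSy]
      simp [Matrix.mul_assoc]
    refine h.irr S fun r hr => ?_
    rcases h.comm r hr a ha with e | e
    · exact hSC r hr e
    · have h1 := hSC _ (mul_mem hy hr) (by
        rw [mul_assoc, e, mul_neg, ← mul_assoc a y r, hay', neg_mul, mul_assoc])
      rw [Units.val_mul, ← Matrix.mul_assoc, hSy', Matrix.mul_assoc, Matrix.mul_assoc] at h1
      have := congrArg (((y⁻¹ : GL ι E) : M) * ·) h1
      simpa using this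
  obtain ⟨α, hα⟩ := hall (W + W') (fun r hr e => by rw [add_mul, mul_add, hW r hr e, hW'C r hr e]) (by
    rw [Matrix.mul_add, Matrix.add_mul, ← hW', hW'y, add_comm])
  have hya : (y : M) * a * ((y⁻¹ : GL ι E) : M) = -(a : M) := by
    rw [show (y : M) * a = -((a : M) * y) by rw [AY, neg_neg], Matrix.neg_mul, Matrix.mul_assoc, Units.mul_inv,
      Matrix.mul_one]
  obtain ⟨γ, hγ⟩ := hall ((W - W') * (a : M)) (fun r hr e => by
    rw [Matrix.mul_assoc, show (a : M) * r = r * a from (congrArg Units.val e).symm, ← Matrix.mul_assoc, sub_mul W W',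
      hW r hr e, hW'C r hr e, ← mul_sub, Matrix.mul_assoc]) (by
    calc (y : M) * ((W - W') * a) * ((y⁻¹ : GL ι E) : M)
        = ((y : M) * (W - W') * ((y⁻¹ : GL ι E) : M)) * ((y : M) * a * ((y⁻¹ : GL ι E) : M)) := by
          simp [Matrix.mul_assoc]
      _ = _ := by rw [hya, Matrix.mul_sub, Matrix.sub_mul, ← hW', hW'y, Matrix.mul_neg, ← Matrix.neg_mul, neg_sub])
  have e1 : W - W' = (-γ) • (a : M) := by
    have := congrArg (· * (a : M)) hγ
    simp only [Matrix.mul_assoc, A2, Matrix.mul_neg, Matrix.mul_one, Matrix.smul_mul, Matrix.one_mul] at this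
    rw [← neg_neg (W - W'), this, neg_smul]
  refine ⟨(2 : E)⁻¹ * α, (2 : E)⁻¹ * -γ, ?_⟩
  rw [← smul_smul, ← smul_smul, ← hα, ← e1, ← smul_add, show W + W' + (W - W') = (2 : E) • W by rw [two_smul]; abel,
    smul_smul, inv_mul_cancel₀ h.two, one_smul]

end Cfsg.Agent.ClassicalMax.SympPlus
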