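import Cfsg.Agent.ClassicalMax.SympPlus.Basic
import Cfsg.Agent.ClassicalMax.SympPlus.Coords
import Cfsg.Agent.ClassicalMax.SympPlus.Gen
import Cfsg.Agent.ClassicalMax.SympPlus.Span2

/-!
The centraliser of an element of square minus one as a linear or unitary group of half the dimension: either it
normalises the centraliser in the two-group or the overgroup has its unipotent elements.
-/

set_option autoImplicit false
set_option linter.unusedSectionVars false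

namespace Cfsg.Agent.ClassicalMax.SympPlus

open Matrix SympType SympMinus

/-- A subgroup with the scalars. -/
def withSc {κ : Type*} [Fintype κ] [DecidableEq κ] {E : Type*} [Field E] (H : Subgroup (GL κ E)) :
    Subgroup (GL κ E) where
  carrier := {g | ∃ c : Eˣ, ∃ h ∈ H, g = sc c * h}
  one_mem' := ⟨1, 1, one_mem H, by rw [sc_one, one_mul]⟩
  mul_mem' := by
    rintro _ _ ⟨c, h, hh, rfl⟩ ⟨c', h', hh', rfl⟩
    exact ⟨c * c', h * h', mul_mem hh hh', by
      rw [mul_assoc, ← mul_assoc h, ← sc_comm, mul_assoc (sc c') h, ← mul_assoc, sc_mul]⟩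
  inv_mem' := by
    rintro _ ⟨c, h, hh, rfl⟩
    exact ⟨c⁻¹, h⁻¹, inv_mem hh, by
      rw [_root_.mul_inv_rev, sc_comm, show (sc c : GL κ E)⁻¹ = sc c⁻¹ from inv_eq_of_mul_eq_one_right (by
        rw [sc_mul, mul_inv_cancel, sc_one])]⟩

theorem npow {κ : Type*} [Fintype κ] [DecidableEq κ] {A : Type*} [Field A] (N : Matrix κ κ A) (m : ℕ)
    (hN : N * N = 0) : (1 + N) ^ m = 1 + (m : A) • N := by
  induction m with
  | zero => simp
  | succ m ih =>
    rw [pow_succ, ih, mul_add, mul_one, add_mul, one_mul, Matrix.smul_mul, hN, smul_zero, add_zero, Nat.cast_succ,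
      add_smul, one_smul, add_assoc]

variable {ι : Type*} [Fintype ι] [DecidableEq ι] {F : Type*} [Field F] [Finite F] {d : ℕ} {J : Matrix ι ι F}
  {a : GL ι F} (c : Crd J a d) {E : Type*} [Field E] [Finite E] (τ : F →+* E) {j : E} (hj : j * j = -1)

/-- The centraliser among the isometries. -/
def Ca (J : Matrix ι ι F) (a : GL ι F) : Subgroup (GL ι F) := Iso J ⊓ Subgroup.centralizer {a}

theorem mem_Ca {g : GL ι F} : g ∈ Ca J a ↔ g ∈ Iso J ∧ g * a = a * g := by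
  rw [Ca, Subgroup.mem_inf, Subgroup.mem_centralizer_singleton_iff]

theorem Ca_comm {g : GL ι F} (hg : g ∈ Ca J a) : (g : Matrix ι ι F) * a = a * g :=
  congrArg Units.val (mem_Ca.1 hg).2

/-- The complex representation. -/
noncomputable def phi : Ca J a →* GL (Fin d) E :=
  MonoidHom.toHomUnits
    { toFun := fun g => c.psM τ j (g.1 : Matrix ι ι F)
      map_one' := c.psM_one τ j
      map_mul' := fun g h => by
        rw [Subgroup.coe_mul, Units.val_mul, c.psM_mul τ j hj _ (Ca_comm g.2)] }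

theorem phi_val (g : Ca J a) : (phi c τ hj g : Matrix (Fin d) (Fin d) E) = c.psM τ j (g.1 : Matrix ι ι F) := rfl

theorem phi_inj (h2 : (2 : E) ≠ 0) : Function.Injective (phi c τ hj) := by
  intro g h e
  have e1 : c.psM τ j (g.1 : Matrix ι ι F) = c.psM τ j (h.1 : Matrix ι ι F) := congrArg Units.val e
  have i1 := (c.iso_iff τ j h2 hj (Ca_comm g.2)).1 (mem_Ca.1 g.2).1
  have i2 := (c.iso_iff τ j h2 hj (Ca_comm h.2)).1 (mem_Ca.1 h.2).1
  have e2 : c.psB τ j (g.1 : Matrix ι ι F) = c.psB τ j (h.1 : Matrix ι ι F) := by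
    refine Matrix.transpose_injective ?_
    rw [← e1] at i2
    exact left_inv_eq_right_inv i1 (mul_eq_one_comm.1 i2)
  exact Subtype.ext (Units.ext (c.ext_ps τ j h2 hj (Ca_comm g.2) (Ca_comm h.2) e1 e2))

variable {R K : Subgroup (GL ι F)} (hO : Over J R K) (ha : a ∈ R) (a2 : a * a = -1)
include hO ha a2

theorem mem_Ca_of {r : GL ι F} (hr : r ∈ R) (e : r * a = a * r) : r ∈ Ca J a := mem_Ca.2 ⟨hO.le hr, e⟩

theorem a_mem : a ∈ Ca J a := mem_Ca_of hO ha a2 ha rfl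

theorem neg_mem_Ca : (-1 : GL ι F) ∈ Ca J a := mem_Ca_of hO ha a2 hO.sr.neg (by simp)

theorem phi_neg : phi c τ hj ⟨-1, neg_mem_Ca hO ha a2⟩ = -1 :=
  Units.ext (by rw [phi_val, Units.val_neg, Units.val_neg, Units.val_one, Units.val_one, c.psM_neg, c.psM_one])

/-- The two-group of the centraliser, with scalars. -/
noncomputable def imgR : Subgroup (GL (Fin d) E) := withSc ((R.subgroupOf (Ca J a)).map (phi c τ hj))

omit hO ha a2 in
theorem mem_imgR {x : GL (Fin d) E} :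
    x ∈ imgR c τ hj (R := R) ↔ ∃ k : Eˣ, ∃ r : Ca J a, r.1 ∈ R ∧ x = sc k * phi c τ hj r := by
  constructor
  · rintro ⟨k, _, ⟨r, hr, rfl⟩, rfl⟩
    exact ⟨k, r, hr, rfl⟩
  · rintro ⟨k, r, hr, rfl⟩
    exact ⟨k, _, ⟨r, hr, rfl⟩, rfl⟩

theorem phi_sq {r : Ca J a} (hr : r.1 ∈ R) : phi c τ hj r * phi c τ hj r = 1 ∨ phi c τ hj r * phi c τ hj r = -1 := by
  rcases hO.sr.sq _ hr with e | e
  · exact Or.inl (by rw [← map_mul, show r * r = 1 from Subtype.ext e, map_one])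
  · exact Or.inr (by rw [← map_mul, show r * r = ⟨-1, neg_mem_Ca hO ha a2⟩ from Subtype.ext e,
      phi_neg c τ hj hO ha a2])

/-- A scalar of square minus one is the image of plus or minus `a`. -/
theorem phi_four {k : Eˣ} (hk : (k : E) * k = 1 ∨ (k : E) * k = -1) :
    ∃ z : Ca J a, z.1 ∈ R ∧ phi c τ hj z = sc k := by
  have h := hO.sr
  rcases hk with e | e
  · rcases mul_self_eq_one_iff.1 e with e' | e'
    · exact ⟨1, one_mem R, by rw [map_one, show k = 1 from Units.ext e', sc_one]⟩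
    · exact ⟨⟨-1, neg_mem_Ca hO ha a2⟩, h.neg, by
        rw [phi_neg c τ hj hO ha a2, show k = -1 from Units.ext e', sc_neg_one]⟩
  · rw [← hj] at e
    rcases mul_self_eq_mul_self_iff.1 e with e' | e'
    · exact ⟨⟨a, a_mem hO ha a2⟩, ha, Units.ext (by rw [phi_val, c.psM_a, sc_val, e'])⟩
    · exact ⟨⟨-a, mem_Ca_of hO ha a2 (h.neg_mem ha) (by simp)⟩, h.neg_mem ha,
        Units.ext (by rw [phi_val, Units.val_neg, c.psM_neg, c.psM_a, sc_val, e', neg_smul])⟩

theorem neg_of_imgR {x : GL (Fin d) E} (hd : 0 < d) (hx : x ∈ imgR c τ hj (R := R))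
    (hxx : x * x = 1 ∨ x * x = -1) : ∃ r : Ca J a, r.1 ∈ R ∧ x = phi c τ hj r := by
  haveI : Nonempty (Fin d) := ⟨⟨0, hd⟩⟩
  obtain ⟨k, r, hr, rfl⟩ := (mem_imgR c τ hj).1 hx
  have e : sc k * phi c τ hj r * (sc k * phi c τ hj r) = sc (k * k) * (phi c τ hj r * phi c τ hj r) := by
    rw [mul_assoc, ← mul_assoc (phi c τ hj r), ← sc_comm, mul_assoc (sc k), ← mul_assoc, sc_mul]
  rw [e] at hxx
  have hk : (k : E) * k = 1 ∨ (k : E) * k = -1 := by
    have : k * k = 1 ∨ k * k = -1 := by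
      rcases phi_sq c τ hj hO ha a2 hr with f | f <;> rw [f] at hxx
      · rw [mul_one] at hxx
        exact hxx.imp (fun g => sc_inj (g.trans sc_one.symm)) fun g => sc_inj (g.trans sc_neg_one.symm)
      · rw [mul_neg, mul_one] at hxx
        rcases hxx with g | g
        · exact Or.inr (sc_inj ((neg_eq_iff_eq_neg.1 g).trans sc_neg_one.symm))
        · exact Or.inl (sc_inj ((neg_inj.1 g).trans sc_one.symm))
    exact this.imp (fun g => congrArg Units.val g) fun g => congrArg Units.val g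
  obtain ⟨z, hz, hz'⟩ := phi_four c τ hj hO ha a2 hk
  exact ⟨z * r, mul_mem hz hr, by rw [map_mul, hz']⟩

variable (h2 : (2 : E) ≠ 0)
  (hsur : ∀ N : Matrix (Fin d) (Fin d) E, ∃ g : Matrix ι ι F, g * a = a * g ∧ c.psM τ j g = N ∧
    ∀ r : Matrix ι ι F, N * c.psM τ j r = c.psM τ j r * N → c.psB τ j g * c.psB τ j r = c.psB τ j r * c.psB τ j g)
include h2 hsur

theorem imgR_ps (hdE : (d : E) ≠ 0) : PS (imgR c τ hj (R := R)) := by
  have h := hO.sr
  have hd : 0 < d := Nat.pos_of_ne_zero fun e => hdE (by rw [e, Nat.cast_zero])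
  haveI : Nonempty (Fin d) := ⟨⟨0, hd⟩⟩
  refine ⟨h2, by rwa [Fintype.card_fin], ⟨j, hj⟩, fun k => (mem_imgR c τ hj).2 ⟨k, 1, one_mem R, by
    rw [map_one, mul_one]⟩, ?_, ?_, ?_⟩
  · intro x hx y hy
    obtain ⟨k, r, hr, rfl⟩ := (mem_imgR c τ hj).1 hx
    obtain ⟨k', s, hs, rfl⟩ := (mem_imgR c τ hj).1 hy
    have e1 : ∀ (k k' : Eˣ) (r s : GL (Fin d) E), sc k * r * (sc k' * s) = sc (k * k') * (r * s) := fun k k' r s => by
      rw [mul_assoc, ← mul_assoc r, ← sc_comm, mul_assoc (sc k'), ← mul_assoc, sc_mul]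
    rw [e1, e1, mul_comm k' k]
    rcases h.comm _ hr _ hs with e | e
    · exact Or.inl (by rw [← map_mul, show r * s = s * r from Subtype.ext e, map_mul])
    · refine Or.inr ?_
      rw [← map_mul, show r * s = ⟨-1, neg_mem_Ca hO ha a2⟩ * (s * r) from Subtype.ext (by
        rw [Subgroup.coe_mul, Subgroup.coe_mul, e]; simp), map_mul, phi_neg c τ hj hO ha a2, map_mul, neg_one_mul,
        mul_neg]
  · intro N hN
    obtain ⟨g, hga, hgM, hgB⟩ := hsur N
    have hC : ∀ r ∈ R, r * a = a * r → g * (r : Matrix ι ι F) = r * g := by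
      intro r hr e
      obtain ⟨r', hr'⟩ : ∃ r' : Ca J a, r'.1 = r := ⟨⟨r, mem_Ca_of hO ha a2 hr e⟩, rfl⟩
      have hN' := hN _ ((mem_imgR c τ hj).2 ⟨1, r', hr'.symm ▸ hr, by rw [sc_one, one_mul]⟩)
      rw [phi_val, hr'] at hN'
      have era : (r : Matrix ι ι F) * a = a * r := congrArg Units.val e
      refine c.ext_ps τ j h2 hj ?_ ?_ ?_ ?_
      · rw [Matrix.mul_assoc, era, ← Matrix.mul_assoc, hga, Matrix.mul_assoc]
      · rw [Matrix.mul_assoc, hga, ← Matrix.mul_assoc, era, Matrix.mul_assoc]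
      · rw [c.psM_mul τ j hj _ hga, c.psM_mul τ j hj _ era, hgM, hN']
      · rw [c.psB_mul τ j hj _ hga, c.psB_mul τ j hj _ era, hgB _ hN']
    obtain ⟨α, β, e⟩ := span_of_cent h ha a2 hC
    exact ⟨τ α + τ β * j, by
      rw [← hgM, e, c.psM_add, c.psM_smul, c.psM_smul, c.psM_one, c.psM_a, smul_smul, add_smul]⟩
  · intro x hx
    obtain ⟨k, r, hr, rfl⟩ := (mem_imgR c τ hj).1 hx
    rcases phi_sq c τ hj hO ha a2 hr with e | e
    · exact ⟨k, _, (mem_imgR c τ hj).2 ⟨1, r, hr, by rw [sc_one, one_mul]⟩, rfl, e⟩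
    · have hj0 : j ≠ 0 := fun e => by simp [e] at hj
      obtain ⟨u, hu⟩ : ∃ u : Eˣ, (u : E) = j := ⟨Units.mk0 j hj0, rfl⟩
      have uu : u * u = -1 := Units.ext (by rw [Units.val_mul, hu, hj, Units.val_neg, Units.val_one])
      refine ⟨k * u⁻¹, sc u * phi c τ hj r, (mem_imgR c τ hj).2 ⟨u, r, hr, rfl⟩, ?_, ?_⟩
      · rw [← mul_assoc, sc_mul, inv_mul_cancel_right]
      · rw [mul_assoc, ← mul_assoc (phi c τ hj r), ← sc_comm, mul_assoc (sc u), ← mul_assoc, sc_mul, uu, e, sc_neg_one,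
          neg_one_mul, neg_neg]

variable {p : ℕ} [Fact p.Prime] [CharP E p] (hp : (p : F) = 0) (hq : ∀ x : E, x ^ (p * p) = x) (hd : 8 ≤ d)
  (hdE : (d : E) ≠ 0) {Tg : Subgroup (GL (Fin d) E)} (hTg : ∀ g : Ca J a, phi c τ hj g ∈ Tg)
  (hdich : ∀ R' : Subgroup (GL (Fin d) E), PS R' → (∀ x ∈ R', x * x = 1 → x ∈ Tg) → ∀ K' ≤ Tg,
    (∀ g ∈ Tg, (g : Matrix (Fin d) (Fin d) E).det = 1 → (∀ r ∈ R', g * r * g⁻¹ ∈ R') → g ∈ K') →
      (∀ g ∈ K', ∀ r ∈ R', g * r * g⁻¹ ∈ R') ∨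
        ∀ g ∈ Tg, (g : Matrix (Fin d) (Fin d) E).det = 1 → g ∈ K')
include hp hq hd hdE hTg hdich

/-- The centraliser normalises the centraliser in the two-group, or has all unipotents of index two. -/
theorem small_or_root :
    (∀ g ∈ K, g * a = a * g → ∀ r ∈ R, r * a = a * r → g * r * g⁻¹ ∈ R) ∨
      ∀ T ∈ Ca J a, ((T : Matrix ι ι F) - 1) * ((T : Matrix ι ι F) - 1) = 0 → T ∈ K := by
  have h := hO.sr
  haveI : Nonempty (Fin d) := ⟨⟨0, by omega⟩⟩
  have hP := imgR_ps c τ hj hO ha a2 h2 hsur hdE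
  obtain ⟨L, hL⟩ : ∃ L : Subgroup (GL (Fin d) E), L = withSc ((K.subgroupOf (Ca J a)).map (phi c τ hj)) := ⟨_, rfl⟩
  have memL : ∀ {x : GL (Fin d) E}, x ∈ L ↔ ∃ k : Eˣ, ∃ r : Ca J a, r.1 ∈ K ∧ x = sc k * phi c τ hj r :=
    fun {x} => hL ▸ mem_imgR c τ hj (R := K)
  have hscL : ∀ k : Eˣ, sc k ∈ L := fun k => memL.2 ⟨k, 1, one_mem K, by rw [map_one, mul_one]⟩
  have hRL : imgR c τ hj (R := R) ≤ L := fun x hx => by
    obtain ⟨k, r, hr, rfl⟩ := (mem_imgR c τ hj).1 hx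
    exact memL.2 ⟨k, r, hO.rle hr, rfl⟩
  have hlL : ∀ u ∈ imgR c τ hj (R := R), ∀ v ∈ imgR c τ hj (R := R), u * u = -1 → v * v = -1 →
      tl u * tl v ∈ L := by
    intro u hu v hv u2 v2
    obtain ⟨r, hr, rfl⟩ := neg_of_imgR c τ hj hO ha a2 (by omega) hu (Or.inr u2)
    obtain ⟨s, hs, rfl⟩ := neg_of_imgR c τ hj hO ha a2 (by omega) hv (Or.inr v2)
    have neg_back : ∀ {r : Ca J a}, phi c τ hj r * phi c τ hj r = -1 → r.1 * r.1 = -1 := fun {r} e => by
      rw [← map_mul, ← phi_neg c τ hj hO ha a2] at e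
      exact congrArg Subtype.val (phi_inj c τ hj h2 e)
    have r2 := neg_back u2
    have s2 := neg_back v2
    obtain ⟨g, hg⟩ : ∃ g : Ca J a, g.1 = lp h r.1 s.1 := ⟨⟨lp h r.1 s.1, mem_Ca.2 ⟨hO.lp_iso hr hs r2 s2, by
      refine mul_inv_eq_iff_eq_mul.1 ?_
      rw [hO.lp_conj, h.tl_fix s2 (mem_Ca.1 s.2).2, h.tl_fix r2 (mem_Ca.1 r.2).2]⟩⟩, rfl⟩
    have hgK : g.1 ∈ K := hg ▸ hO.lp_mem hr hs r2 s2
    have tlv : ∀ {x : GL (Fin d) E}, x * x = -1 → ((tl x : GL (Fin d) E) : Matrix (Fin d) (Fin d) E) = 1 + x :=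
      fun {x} e => by rw [tl, dif_pos ⟨e, h2⟩]
    refine memL.2 ⟨Units.mk0 2 h2, g, hgK, Units.ext ?_⟩
    rw [Units.val_mul, Units.val_mul, sc_val, phi_val, hg, tlv u2, tlv v2, phi_val, phi_val, lp, Units.val_mul,
      Units.val_mul, sc_val, h.half_val, h.tl_val r2, h.tl_val s2]
    simp only [Matrix.smul_mul, Matrix.one_mul]
    rw [c.psM_smul,
      c.psM_mul τ j hj _ (by rw [add_mul, mul_add, one_mul, mul_one, Ca_comm r.2]), c.psM_add, c.psM_add, c.psM_one,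
      Units.val_mk0, smul_smul, map_inv₀, map_ofNat, mul_inv_cancel₀ h2, one_smul]
  have hgen := fun g => nm_mem hP hRL hlL (g := g) (by rwa [Fintype.card_fin])
  rcases hdich _ hP (fun x hx hxx => by
      obtain ⟨r, -, rfl⟩ := neg_of_imgR c τ hj hO ha a2 (by omega) hx (Or.inl hxx)
      exact hTg r) (L ⊓ Tg) inf_le_right (fun g hg _ hn => ⟨hgen g hn, hg⟩) with hcase | hcase
  · left
    intro g hg hga r hr hra
    obtain ⟨g', hg'⟩ : ∃ g' : Ca J a, g'.1 = g := ⟨⟨g, mem_Ca.2 ⟨hO.kle hg, hga⟩⟩, rfl⟩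
    obtain ⟨r', hr'⟩ : ∃ r' : Ca J a, r'.1 = r := ⟨⟨r, mem_Ca_of hO ha a2 hr hra⟩, rfl⟩
    have hmem := hcase _ ⟨memL.2 ⟨1, g', hg'.symm ▸ hg, by rw [sc_one, one_mul]⟩, hTg g'⟩ _
      ((mem_imgR c τ hj).2 ⟨1, r', hr'.symm ▸ hr, by rw [sc_one, one_mul]⟩)
    rw [← map_inv, ← map_mul, ← map_mul] at hmem
    have hsq : phi c τ hj (g' * r' * g'⁻¹) * phi c τ hj (g' * r' * g'⁻¹) = 1 ∨
        phi c τ hj (g' * r' * g'⁻¹) * phi c τ hj (g' * r' * g'⁻¹) = -1 := by
      have e : phi c τ hj (g' * r' * g'⁻¹) * phi c τ hj (g' * r' * g'⁻¹) =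
          phi c τ hj g' * (phi c τ hj r' * phi c τ hj r') * (phi c τ hj g')⁻¹ := by
        simp only [map_mul, map_inv]; group
      rcases phi_sq c τ hj hO ha a2 (hr'.symm ▸ hr : r'.1 ∈ R) with f | f
      · left; rw [e, f]; simp
      · right; rw [e, f]; simp
    obtain ⟨s, hs, es⟩ := neg_of_imgR c τ hj hO ha a2 (by omega) hmem hsq
    have e1 := congrArg Subtype.val (phi_inj c τ hj h2 es)
    simp only [Subgroup.coe_mul, Subgroup.coe_inv, hg', hr'] at e1
    rw [e1]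
    exact hs
  · right
    intro T hT hTT
    obtain ⟨T', hT'⟩ : ∃ T' : Ca J a, T'.1 = T := ⟨⟨T, hT⟩, rfl⟩
    have hNE : (c.psM τ j (T : Matrix ι ι F) - 1) * (c.psM τ j (T : Matrix ι ι F) - 1) = 0 := by
      obtain ⟨N, hN⟩ : ∃ N, N = (T : Matrix ι ι F) - 1 := ⟨_, rfl⟩
      have e : (T : Matrix ι ι F) = 1 + N := by rw [hN, add_sub_cancel]
      have hNa : N * a = a * N := by rw [hN, sub_mul, mul_sub, one_mul, mul_one, Ca_comm hT]
      rw [e, c.psM_add, c.psM_one, add_sub_cancel_left, ← c.psM_mul τ j hj _ hNa, hN, hTT,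
        ← zero_smul F (1 : Matrix ι ι F), c.psM_smul, map_zero, zero_smul]
    have hdet : (phi c τ hj T' : Matrix (Fin d) (Fin d) E).det = 1 := by
      rw [phi_val, hT']
      have e := congrArg Matrix.det (npow _ p hNE)
      rw [add_sub_cancel, CharP.cast_eq_zero E p, zero_smul, add_zero, Matrix.det_pow, Matrix.det_one] at e
      have e' := sub_pow_char (R := E) (p := p) (c.psM τ j (T : Matrix ι ι F)).det 1
      rw [e, one_pow, sub_self] at e'
      exact sub_eq_zero.1 (pow_eq_zero_iff (Nat.Prime.ne_zero Fact.out) |>.1 e')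
    obtain ⟨k, g, hg, e⟩ := memL.1 (hcase _ (hTg T') hdet).1
    obtain ⟨z, hz⟩ : ∃ z : Ca J a, z = T' * g⁻¹ := ⟨_, rfl⟩
    have hzs : phi c τ hj z = sc k := by rw [hz, map_mul, map_inv, e, mul_inv_cancel_right]
    have hcm : Commute z T' := phi_inj c τ hj h2 (by rw [map_mul, map_mul, hzs, sc_comm])
    have hTp : T ^ p = 1 := by
      refine Units.ext ?_
      have := npow _ p hTT
      rw [add_sub_cancel, hp, zero_smul, add_zero] at this
      rw [Units.val_pow_eq_pow_val, this, Units.val_one]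
    have hzp : z ^ (p * p) = z := phi_inj c τ hj h2 (by
      rw [map_pow, hzs, show (sc k : GL (Fin d) E) ^ (p * p) = sc (k ^ (p * p)) from (map_pow _ _ _).symm]
      exact congrArg sc (Units.ext (by rw [Units.val_pow_eq_pow_val, hq])))
    have hgz : g ^ (p * p) = z⁻¹ := by
      have e1 : g = z⁻¹ * T' := by rw [hz, _root_.mul_inv_rev, inv_inv, inv_mul_cancel_right]
      rw [e1, hcm.inv_left.mul_pow, inv_pow, hzp, show T' ^ (p * p) = 1 from Subtype.ext (by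
        rw [SubgroupClass.coe_pow, hT', pow_mul, hTp, one_pow, Subgroup.coe_one]), mul_one]
    have hzK : z.1 ∈ K := by
      have h3 : (g ^ (p * p)).1 ∈ K := by rw [SubgroupClass.coe_pow]; exact pow_mem hg _
      rw [hgz, Subgroup.coe_inv] at h3
      simpa using inv_mem h3
    have := mul_mem hzK hg
    rwa [← Subgroup.coe_mul, hz, inv_mul_cancel_right, hT'] at this

end Cfsg.Agent.ClassicalMax.SympPlus
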