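import Cfsg.Agent.ClassicalMax.SympMinus.Step

/-!
Elements of an extraspecial two-group commuting with given ones and avoiding given ones.
-/

set_option autoImplicit false
set_option linter.unusedSectionVars false

namespace Cfsg.Agent.ClassicalMax.SympPlus

open Matrix SympType SympMinus

variable {ι : Type*} [Fintype ι] [DecidableEq ι] {E : Type*} [Field E] [Finite E]
  {R : Subgroup (GL ι E)} (h : SR R)
include h

/-- One commuting with all of a short list and outside a small set. -/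
theorem exists_comm_avoid {k : ℕ} (L : Fin k → GL ι E) (hL : ∀ i, L i ∈ R) (B : Set (GL ι E)) (hBf : B.Finite)
    (hB : 2 ^ k * B.ncard < Nat.card R) : ∃ c ∈ R, (∀ i, sg c (L i) = 1) ∧ c ∉ B := by
  classical
  by_contra hc
  push Not at hc
  obtain ⟨s, hs⟩ : ∃ s : R → Fin k → Bool, ∀ r i, s r i = decide (sg (r : GL ι E) (L i) = 1) :=
    ⟨fun r i => decide (sg (r : GL ι E) (L i) = 1), fun _ _ => rfl⟩
  obtain ⟨rep, hrep⟩ : ∃ rep : (Fin k → Bool) → R, ∀ r, s (rep (s r)) = s r :=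
    ⟨fun v => if hv : ∃ r, s r = v then hv.choose else 1, fun r => by
      have hv : ∃ r', s r' = s r := ⟨r, rfl⟩
      simp only [dif_pos hv]
      exact hv.choose_spec⟩
  have hmem : ∀ r : R, ((rep (s r))⁻¹ * r : R).1 ∈ B := fun r => by
    refine hc _ (Subtype.coe_prop _) fun i => ?_
    have e := congrFun (hrep r) i
    rw [hs, hs, decide_eq_decide] at e
    have h0 : sg ((rep (s r) : GL ι E)⁻¹) (L i) = sg (rep (s r) : GL ι E) (L i) := by
      have := h.sg_mul (inv_mem (rep (s r)).2) (rep (s r)).2 (hL i)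
      rw [inv_mul_cancel, show sg (1 : GL ι E) (L i) = 1 by simp [sg]] at this
      rcases h.sg_cases (rep (s r) : GL ι E) (L i) with e1 | e1 <;> rw [e1] at this ⊢ <;> linarith
    rw [Subgroup.coe_mul, Subgroup.coe_inv, h.sg_mul (inv_mem (rep (s r)).2) r.2 (hL i), h0]
    rcases h.sg_cases (r : GL ι E) (L i) with e1 | e1 <;> rcases h.sg_cases (rep (s r) : GL ι E) (L i) with e2 | e2 <;>
      simp [e1, e2] at e ⊢
  haveI := hBf.to_subtype
  have h1 := Nat.card_le_card_of_injective (fun r : R => (s r, (⟨_, hmem r⟩ : B))) fun r r' e => by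
    simp only [Prod.mk.injEq, Subtype.mk.injEq] at e
    obtain ⟨e1, e2⟩ := e
    rw [← e1] at e2
    exact mul_left_cancel (Subtype.ext e2)
  rw [Nat.card_prod, Nat.card_fun, Nat.card_coe_set_eq, Nat.card_eq_fintype_card (α := Bool), Fintype.card_bool,
    Nat.card_fin] at h1
  omega

/-- One commuting with two and not with a third. -/
theorem sep₂ {a a' c : GL ι E} (ha : a ∈ R) (ha' : a' ∈ R) (hc : c ∈ R) (c1 : NC c) (ac : NC (a * c))
    (a'c : NC (a' * c)) (aa'c : NC (a * (a' * c))) : ∃ t ∈ R, sg t a = 1 ∧ sg t a' = 1 ∧ sg t c = -1 := by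
  obtain ⟨u, hu, ua, uc⟩ := h.sep ha hc c1 ac
  rcases h.sg_cases u a' with e | e
  · exact ⟨u, hu, ua, e, uc⟩
  obtain ⟨w, hw, wa, wc⟩ := h.sep ha (mul_mem ha' hc) a'c aa'c
  rw [h.sg_mul_right ha' hc hw] at wc
  rcases h.sg_cases w a' with e' | e'
  · exact ⟨w, hw, wa, e', by rwa [e', one_mul] at wc⟩
  have wc' : sg w c = 1 := by rw [e'] at wc; linarith
  exact ⟨u * w, mul_mem hu hw, by rw [h.sg_mul hu hw ha, ua, wa, one_mul], by rw [h.sg_mul hu hw ha', e, e']; norm_num,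
    by rw [h.sg_mul hu hw hc, uc, wc']; norm_num⟩

/-- A pair orthogonal to three orthogonal pairs. -/
theorem exists_pair_perp₃ (hn : 16 ≤ Fintype.card ι) {a b c d e f : GL ι E} (P : Pair R a b) (Q : Pair R c d)
    (S : Pair R e f) (hPQ : ∀ u ∈ ({a, b} : Set (GL ι E)), sg u c = 1 ∧ sg u d = 1)
    (hPS : ∀ u ∈ ({a, b} : Set (GL ι E)), sg u e = 1 ∧ sg u f = 1)
    (hQS : ∀ u ∈ ({c, d} : Set (GL ι E)), sg u e = 1 ∧ sg u f = 1) :
    ∃ p q, Pair R p q ∧ ∀ u ∈ ({a, b, c, d, e, f} : Set (GL ι E)), sg p u = 1 ∧ sg q u = 1 := by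
  have hL : ∀ i, (![a, b, c, d, e, f] : Fin 6 → GL ι E) i ∈ R := by
    intro i; fin_cases i
    exacts [P.ha, P.hb, Q.ha, Q.hb, S.ha, S.hb]
  obtain ⟨p, hp, hpL, hp1⟩ := exists_comm_avoid h _ hL {1, -1} (Set.toFinite _) (by
    rw [h.card]
    have := (Set.ncard_insert_le (1 : GL ι E) {-1}).trans_eq (by rw [Set.ncard_singleton])
    nlinarith)
  simp only [Set.mem_insert_iff, Set.mem_singleton_iff, not_or] at hp1
  obtain ⟨q₀, hq₀, hpq⟩ := h.exists_anti hp hp1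
  have pa : sg p a = 1 := hpL 0
  have pb : sg p b = 1 := hpL 1
  have pc : sg p c = 1 := hpL 2
  have pd : sg p d = 1 := hpL 3
  have pe : sg p e = 1 := hpL 4
  have pf : sg p f = 1 := hpL 5
  obtain ⟨i, hi, e1, e2⟩ := h.proj P hq₀
  have hiR := h.four_mem P hi
  obtain ⟨j, hj, e3, e4⟩ := h.proj Q (mul_mem hq₀ hiR)
  have hjR := h.four_mem Q hj
  obtain ⟨l, hl, e5, e6⟩ := h.proj S (mul_mem (mul_mem hq₀ hiR) hjR)
  have hlR := h.four_mem S hl
  have keep : ∀ {z r : GL ι E}, z ∈ R → r ∈ R → ∀ {u v : GL ι E} (T : Pair R u v), sg z u = 1 → sg z v = 1 →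
      ∀ {m : GL ι E}, m ∈ ({1, u, v, u * v} : Set (GL ι E)) → sg (r * m) z = sg r z := fun {z r} hz hr {u v} T zu zv {m} hm => by
    rw [h.sg_mul hr (h.four_mem T hm) hz, sg_comm m, h.four_sg T hz zu zv hm, mul_one]
  have pa' := (hPQ a (by simp))
  have pb' := (hPQ b (by simp))
  have pa'' := (hPS a (by simp))
  have pb'' := (hPS b (by simp))
  have pc'' := (hQS c (by simp))
  have pd'' := (hQS d (by simp))
  refine ⟨p, q₀ * i * j * l, ⟨hp, mul_mem (mul_mem (mul_mem hq₀ hiR) hjR) hlR, ?_⟩, ?_⟩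
  · rw [sg_comm, keep hp (mul_mem (mul_mem hq₀ hiR) hjR) S pe pf hl, keep hp (mul_mem hq₀ hiR) Q pc pd hj,
      keep hp hq₀ P pa pb hi, sg_comm, hpq]
  rintro u (rfl | rfl | rfl | rfl | rfl | rfl)
  · exact ⟨pa, by rw [keep P.ha (mul_mem (mul_mem hq₀ hiR) hjR) S pa''.1 pa''.2 hl,
      keep P.ha (mul_mem hq₀ hiR) Q pa'.1 pa'.2 hj, e1]⟩
  · exact ⟨pb, by rw [keep P.hb (mul_mem (mul_mem hq₀ hiR) hjR) S pb''.1 pb''.2 hl,
      keep P.hb (mul_mem hq₀ hiR) Q pb'.1 pb'.2 hj, e2]⟩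
  · exact ⟨pc, by rw [keep Q.ha (mul_mem (mul_mem hq₀ hiR) hjR) S pc''.1 pc''.2 hl, e3]⟩
  · exact ⟨pd, by rw [keep Q.hb (mul_mem (mul_mem hq₀ hiR) hjR) S pd''.1 pd''.2 hl, e4]⟩
  · exact ⟨pe, e5⟩
  · exact ⟨pf, e6⟩

end Cfsg.Agent.ClassicalMax.SympPlus
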