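import Cfsg.Agent.ClassicalMax.SympPlus.Half
import Cfsg.Agent.ClassicalMax.SympPlus.Span

/-!
With the centralisers of square minus one elements normalising, the recorded elements are those of the two-group, when
they commute or anticommute with one of them, or normalise it.
-/

set_option autoImplicit false
set_option linter.unusedSectionVars false

namespace Cfsg.Agent.ClassicalMax.SympPlus

open Matrix SympType SympMinus

variable {ι : Type*} [Fintype ι] [DecidableEq ι] {E : Type*} [Field E] [Finite E]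

local notation "M" => Matrix ι ι E

/-- Centralisers of elements of square minus one normalise. -/
def Neg (R K : Subgroup (GL ι E)) : Prop := ∀ a ∈ R, a * a = -1 → ∀ g ∈ K, g * a = a * g → Nm R g

theorem Half.mul {x b b' β β' : GL ι E} (h : Half x b β) (h' : Half x b' β') (hβ : β * x = x * β) :
    Half x (b * b') (β * β') := by
  refine ⟨by rw [mul_assoc, h'.bx, ← mul_assoc, h.bx, mul_assoc], ?_, ?_⟩
  · rw [Units.val_mul, ← Matrix.mul_assoc, h.plus, h'.plus]
  · obtain ⟨-, e⟩ := part_comm (x := (x : M)) (g := β) (congrArg Units.val hβ)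
    rw [Units.val_mul, ← Matrix.mul_assoc, h.minus, ← e, Matrix.mul_assoc, h'.minus, ← Matrix.mul_assoc, e,
      Matrix.mul_assoc, ← Units.val_mul]

theorem Half.conj {x n b β : GL ι E} (h : Half x b β) (hn : n * x = x * n) :
    Half x (n * b * n⁻¹) (n * β * n⁻¹) := by
  obtain ⟨p, q⟩ := part_comm (x := (x : M)) (g := n) (congrArg Units.val hn)
  refine ⟨?_, ?_, ?_⟩
  · rw [mul_assoc, comm_inv hn, ← mul_assoc, mul_assoc n, h.bx, ← mul_assoc, hn]; simp only [mul_assoc]
  · simp only [Units.val_mul, ← Matrix.mul_assoc]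
    rw [← p, Matrix.mul_assoc (n : M), h.plus, p, Matrix.mul_assoc, Units.mul_inv, mul_one]
  · simp only [Units.val_mul, ← Matrix.mul_assoc]
    rw [← q, Matrix.mul_assoc (n : M), h.minus, ← Matrix.mul_assoc]

variable {J : Matrix ι ι E} {R K : Subgroup (GL ι E)} {x y : GL ι E} (hO : Over J R K) (hF : Frame2 R x y)
include hO hF

theorem Frame2.pair : Pair R x y := ⟨hF.hx, hF.hy, (hO.sr.sg_neg_iff hF.hx hF.hy).2 hF.anti⟩

theorem Frame2.ncx : NC x := hO.sr.nc_of_sg (hF.pair hO).anti

theorem cxy_iff {u : GL ι E} : Cxy x y u ↔ sg u x = 1 ∧ sg u y = 1 :=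
  ⟨fun e => ⟨sg_eq_one_iff.2 e.1, sg_eq_one_iff.2 e.2⟩, fun e => ⟨sg_eq_one_iff.1 e.1, sg_eq_one_iff.1 e.2⟩⟩

/-- A square minus one element commuting with the frame and with a given such. -/
theorem exists_neg_cxy {u : GL ι E} (hu : u ∈ R) (hc : Cxy x y u) :
    ∃ z ∈ R, Cxy x y z ∧ z * z = -1 ∧ sg z u = 1 := by
  have h := hO.sr
  have P := hF.pair hO
  have hn := hO.dim
  obtain ⟨ux, uy⟩ := (cxy_iff hO hF).1 hc
  by_cases hu1 : NC u
  · obtain ⟨f, hf, huf⟩ := h.exists_anti hu hu1
    obtain ⟨i, hi, fx, fy⟩ := h.proj P hf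
    have hiR := h.four_mem P hi
    have Q : Pair R u (f * i) := ⟨hu, mul_mem hf hiR, by
      rw [h.sg_mul_right hf hiR hu, huf, h.four_sg P hu ux uy hi, mul_one]⟩
    obtain ⟨p, q, S, px, py, qx, qy, pu, -, qu, -⟩ := h.exists_pair_perp₂ P Q ux uy fx fy (by omega)
    obtain ⟨z, t, hz, -, z2, -, hzp⟩ := h.exists_neg_of_pair S
    have g1 : ∀ r ∈ R, sg p r = 1 → sg q r = 1 → sg z r = 1 := fun r hr e1 e2 => by
      rw [sg_comm]; exact (hzp r hr (by rw [sg_comm, e1]) (by rw [sg_comm, e2])).1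
    exact ⟨z, hz, (cxy_iff hO hF).2 ⟨g1 x hF.hx px qx, g1 y hF.hy py qy⟩, z2, g1 u hu pu qu⟩
  · obtain ⟨p, q, S, px, py, qx, qy⟩ := h.exists_pair_perp P (by omega)
    obtain ⟨z, t, hz, -, z2, -, hzp⟩ := h.exists_neg_of_pair S
    have g1 : ∀ r ∈ R, sg p r = 1 → sg q r = 1 → sg z r = 1 := fun r hr e1 e2 => by
      rw [sg_comm]; exact (hzp r hr (by rw [sg_comm, e1]) (by rw [sg_comm, e2])).1
    refine ⟨z, hz, (cxy_iff hO hF).2 ⟨g1 x hF.hx px qx, g1 y hF.hy py qy⟩, z2, sg_eq_one_iff.2 ?_⟩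
    simp only [NC, not_and_or, not_not] at hu1
    rcases hu1 with rfl | rfl <;> simp

/-- The half of an element of the two-group is in the overgroup and normalises. -/
theorem exists_half {u : GL ι E} (hu : u ∈ R) (hc : Cxy x y u) : ∃ b ∈ K, Nm R b ∧ Half x b u := by
  have h := hO.sr
  have one : ∀ v ∈ R, v * v = -1 → Cxy x y v → ∃ b ∈ K, Nm R b ∧ Half x b v := by
    intro v hv v2 hvc
    obtain ⟨w, hw⟩ : ∃ w, w = -(x * v) := ⟨_, rfl⟩
    have hwR : w ∈ R := hw ▸ h.neg_mem (mul_mem hF.hx hv)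
    have w2 : w * w = -1 := by
      rw [hw, neg_mul_neg, h.mul_sq_comm (sg_eq_one_iff.2 hvc.1.symm), hF.x2, v2, one_mul]
    refine ⟨lp h v w, hO.lp_mem hv hwR v2 w2, hO.lp_nm hv hwR v2 w2, ?_⟩
    have wx : w * x = x * w := by rw [hw, neg_mul, mul_neg, mul_assoc, hvc.1]
    have hx' : lp h v w * x = x * lp h v w := by
      refine mul_inv_eq_iff_eq_mul.1 ?_
      rw [hO.lp_conj, h.tl_fix w2 wx, h.tl_fix v2 hvc.1]
    have hX2 : (x : M) * x = 1 := by rw [← Units.val_mul, hF.x2, Units.val_one]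
    have e : (lp h v w : M) = cmbM (x : M) 1 (v : M) := by
      rw [lp, Units.val_mul, Units.val_mul, sc_val, h.half_val, h.tl_val v2, h.tl_val w2, Matrix.smul_mul,
        Matrix.one_mul, cmbM, hw, Units.val_neg, Units.val_mul]
      congr 1
      have e1 : (v : M) * ((x : M) * v) = -(x : M) := by
        rw [← Matrix.mul_assoc, show (v : M) * x = x * v from congrArg Units.val hvc.1, Matrix.mul_assoc, h.sq_val v2,
          mul_neg, mul_one]
      simp only [add_mul, mul_add, sub_mul, one_mul, mul_one, mul_neg, e1, neg_neg]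
      abel
    obtain ⟨c1, c2⟩ := cmbM_parts h.two hX2 1 (v : M)
    exact ⟨hx', by rw [e, c1, mul_one], by rw [e, c2]⟩
  rcases h.sq u hu with u2 | u2
  swap
  · exact one u hu u2 hc
  obtain ⟨z, hz, hzc, z2, zu⟩ := exists_neg_cxy hO hF hu hc
  obtain ⟨b, hb, hbn, H⟩ := one (z * u) (mul_mem hz hu) (by rw [h.mul_sq_comm zu, z2, u2, mul_one]) (hzc.mul hc)
  obtain ⟨b', hb', hb'n, H'⟩ := one z⁻¹ (inv_mem hz) (by
    rw [inv_eq_of_mul_eq_one_right (show z * -z = 1 by rw [mul_neg, z2, neg_neg]), neg_mul_neg, z2]) hzc.inv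
  exact ⟨b' * b, mul_mem hb' hb, hb'n.mul hbn, by simpa using H'.mul H hzc.inv.1⟩

theorem mem_lam {u : GL ι E} (hu : u ∈ R) (hc : Cxy x y u) : u ∈ Lam hF K := by
  obtain ⟨b, hb, -, H⟩ := exists_half hO hF hu hc
  exact ⟨hc, b, hb, H⟩

/-- Agreeing on the negated space is enough. -/
theorem eq_of_minus {a b : GL ι E} (ha : a * y = y * a) (hb : b * y = y * b)
    (e : (1 - (x : M)) * a = (1 - (x : M)) * b) : a = b := by
  obtain ⟨-, yx⟩ := hF.yx
  refine Units.ext (eq_of_parts hO.sr.two (x : M) ?_ e)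
  have e1 := congrArg (fun z => (y : M) * z * (y : M)) e
  have Y2 : (y : M) * y = 1 := by rw [← Units.val_mul, hF.y2, Units.val_one]
  simp only [← Matrix.mul_assoc, yx] at e1
  have ya : (y : M) * a = a * y := (congrArg Units.val ha).symm
  have yb : (y : M) * b = b * y := (congrArg Units.val hb).symm
  simpa only [Matrix.mul_assoc, ← Matrix.mul_assoc (y : M) (a : M), ← Matrix.mul_assoc (y : M) (b : M), ya, yb, Y2,
    mul_one] using e1

theorem plus_ne : (1 : M) + (x : M) ≠ 0 := fun e =>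
  (hF.ncx hO).2 (Units.ext (by rw [Units.val_neg, Units.val_one]; exact eq_neg_of_add_eq_zero_right e))

/-- Two-group elements agreeing on the fixed space differ by the involution at most. -/
theorem eq_or_of_plus {s : GL ι E} (hs : s ∈ R) (sx : sg s x = 1) (e : (1 + (x : M)) * s = 1 + (x : M)) :
    s = 1 ∨ s = x := by
  have h := hO.sr
  have hne := plus_ne hO hF
  have hX : (1 + (x : M)) * x = 1 + (x : M) := by
    rw [add_mul, one_mul, ← Units.val_mul, hF.x2, Units.val_one, add_comm]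
  have neg : ∀ z : GL ι E, (1 + (x : M)) * z = 1 + (x : M) → s ≠ -z := fun z hz e' => by
    rw [e', Units.val_neg, mul_neg, hz, neg_eq_iff_add_eq_zero, ← two_smul E] at e
    exact hne ((smul_eq_zero.1 e).resolve_left h.two)
  by_cases s1 : NC s
  swap
  · simp only [NC, not_and_or, not_not] at s1
    exact Or.inl (s1.resolve_right (neg 1 (by simp)))
  by_cases xs : NC (x * s)
  · exfalso
    obtain ⟨t, ht, tx, ts⟩ := h.sep hF.hx hs s1 xs
    obtain ⟨pt, -⟩ := part_comm (x := (x : M)) (g := t) (congrArg Units.val (sg_eq_one_iff.1 tx))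
    have e1 : (s : M) * t = -((t : M) * s) := by
      rw [show (t : M) * s = -((s : M) * t) from congrArg Units.val ((h.sg_neg_iff ht hs).1 ts), neg_neg]
    have e2 : (1 + (x : M)) * t = -((1 + (x : M)) * t) := by
      calc (1 + (x : M)) * t = (1 + (x : M)) * s * t := by rw [e]
        _ = -((1 + (x : M)) * t * s) := by rw [Matrix.mul_assoc, e1, mul_neg, Matrix.mul_assoc]
        _ = _ := by rw [← pt, Matrix.mul_assoc, e]
    rw [eq_neg_iff_add_eq_zero, ← two_smul E] at e2
    have e3 := (smul_eq_zero.1 e2).resolve_left h.two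
    refine hne ?_
    have e4 := congrArg (fun z => z * ((t⁻¹ : GL ι E) : M)) e3
    simpa [Matrix.mul_assoc] using e4
  · simp only [NC, not_and_or, not_not] at xs
    rcases xs with e' | e'
    · exact Or.inr (by rw [eq_inv_mul_of_mul_eq e', mul_one, inv_eq_of_mul_eq_one_right hF.x2])
    · exact absurd (show s = -x by rw [eq_inv_mul_of_mul_eq e', mul_neg_one, inv_eq_of_mul_eq_one_right hF.x2])
        (neg x hX)

variable (hN : Neg R K)
include hN

/-- A recorded element commuting up to sign with a square minus one one. -/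
theorem mem_of_sign {β a : GL ι E} (hβ : β ∈ Lam hF K) (ha : a ∈ R) (hac : Cxy x y a) (a2 : a * a = -1)
    (hs : β * a = a * β ∨ β * a = -(a * β)) : β ∈ R := by
  have h := hO.sr
  have P := hF.pair hO
  have comm : ∀ β' b' : GL ι E, b' ∈ K → Half x b' β' → β' * a = a * β' → Nm R b' := by
    intro β' b' hb' H e
    refine hN a ha a2 b' hb' (Units.ext (eq_of_parts h.two (x : M) ?_ ?_))
    all_goals obtain ⟨p, q⟩ := part_comm (x := (x : M)) (g := a) (congrArg Units.val hac.1)
    · simp only [Units.val_mul, ← Matrix.mul_assoc]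
      rw [H.plus, ← p, Matrix.mul_assoc (a : M), H.plus]
    · simp only [Units.val_mul, ← Matrix.mul_assoc]
      rw [H.minus, ← q, Matrix.mul_assoc (a : M), H.minus, ← Matrix.mul_assoc (a : M), q, Matrix.mul_assoc,
        Matrix.mul_assoc, ← Units.val_mul, ← Units.val_mul, e]
  have hβK := lam_le hO hF hβ
  obtain ⟨hβc, b, hb, H⟩ := hβ
  have hbn : Nm R b := by
    rcases hs with e | e
    · exact comm β b hb H e
    obtain ⟨f, hf, haf⟩ := h.exists_anti ha (h.nc_of_neg a2)
    obtain ⟨i, hi, fx, fy⟩ := h.proj P hf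
    have hiR := h.four_mem P hi
    obtain ⟨ax, ay⟩ := (cxy_iff hO hF).1 hac
    have haf' : sg a (f * i) = -1 := by rw [h.sg_mul_right hf hiR ha, haf, h.four_sg P ha ax ay hi, mul_one]
    have hfc : Cxy x y (f * i) := (cxy_iff hO hF).2 ⟨fx, fy⟩
    obtain ⟨c, hc, hcn, H'⟩ := exists_half hO hF (mul_mem hf hiR) hfc
    have := (comm _ _ (mul_mem hb hc) (H.mul H' hβc.1) (by
      have e1 := (h.sg_neg_iff ha (mul_mem hf hiR)).1 haf'
      rw [mul_assoc, show f * i * a = -(a * (f * i)) by rw [e1, neg_neg], mul_neg, ← mul_assoc, e, neg_mul, neg_neg,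
        mul_assoc])).mul (nm_inv hcn)
    rwa [mul_inv_cancel_right] at this
  have sgn : ∀ u ∈ R, Cxy x y u → β * u = u * β ∨ β * u = -(u * β) := by
    intro u hu huc
    obtain ⟨r, hr'⟩ : ∃ r, r = b * u * b⁻¹ := ⟨_, rfl⟩
    have hr : r ∈ R := hr' ▸ hbn u hu
    obtain ⟨pu, qu⟩ := part_comm (x := (x : M)) (g := u) (congrArg Units.val huc.1)
    have ebu : b * u = r * b := by rw [hr']; group
    have hrx : sg r x = 1 := sg_eq_one_iff.2 (by
      have e1 := H.bx
      rw [hr', mul_assoc, comm_inv e1, ← mul_assoc, mul_assoc b, huc.1, ← mul_assoc, e1]; simp only [mul_assoc])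
    obtain ⟨pr, qr⟩ := part_comm (x := (x : M)) (g := r) (congrArg Units.val (sg_eq_one_iff.1 hrx))
    have e2 : (1 + (x : M)) * r = (1 + (x : M)) * u := by
      have e3 := congrArg (fun z : GL ι E => (1 + (x : M)) * (z : M)) ebu
      simp only [Units.val_mul, ← Matrix.mul_assoc] at e3
      rw [H.plus, ← pr, Matrix.mul_assoc (r : M), H.plus, pr] at e3
      exact e3.symm
    have hsplus : (1 + (x : M)) * ((r * u⁻¹ : GL ι E) : M) = 1 + (x : M) := by
      rw [Units.val_mul, ← Matrix.mul_assoc, e2, Matrix.mul_assoc, Units.mul_inv, mul_one]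
    have hmin : ∀ ε : M, (1 - (x : M)) * r = ε * ((1 - (x : M)) * u) →
        (1 - (x : M)) * ((β * u : GL ι E) : M) = ε * ((1 - (x : M)) * ((u * β : GL ι E) : M)) := fun ε e4 => by
      have e3 := congrArg (fun z : GL ι E => (1 - (x : M)) * (z : M)) ebu
      simp only [Units.val_mul, ← Matrix.mul_assoc] at e3
      rw [H.minus, e4, Matrix.mul_assoc ε, ← qu, Matrix.mul_assoc (u : M), H.minus, ← Matrix.mul_assoc (u : M), qu,
        Matrix.mul_assoc, Matrix.mul_assoc] at e3
      rw [Units.val_mul, Units.val_mul]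
      exact e3
    have hsg : sg (r * u⁻¹) x = 1 := by
      rw [sg_eq_one_iff, mul_assoc, (huc.inv).1, ← mul_assoc, sg_eq_one_iff.1 hrx, mul_assoc]
    have hy1 : β * u * y = y * (β * u) := (hβc.mul huc).2
    have hy2 : u * β * y = y * (u * β) := (huc.mul hβc).2
    rcases eq_or_of_plus hO hF (mul_mem hr (inv_mem hu)) hsg hsplus with e' | e' <;>
      rw [mul_inv_eq_iff_eq_mul] at e'
    · left
      refine eq_of_minus hO hF hy1 hy2 ?_
      simpa using hmin 1 (by rw [e', one_mul, one_mul])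
    · right
      refine eq_of_minus hO hF hy1 (by rw [neg_mul, mul_neg, hy2]) ?_
      rw [hmin (-1) (by
        rw [e', Units.val_mul, ← Matrix.mul_assoc, sub_mul (1 : M) (x : M) (x : M), one_mul, ← Units.val_mul, hF.x2,
          Units.val_one, neg_mul, one_mul, ← neg_mul, neg_sub]), Units.val_neg, mul_neg, neg_mul, one_mul]
  obtain ⟨s, hs', c, hc⟩ := h.mem_of_signs (g := β) fun r hr => by
    obtain ⟨i, hi, e1, e2⟩ := h.proj P hr
    have hiR := h.four_mem P hi
    have hbi : β * i⁻¹ = i⁻¹ * β := by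
      have e3 : β * i = i * β := by
        rcases hi with rfl | rfl | rfl | rfl
        exacts [by simp, hβc.1, hβc.2, by rw [← mul_assoc, hβc.1, mul_assoc, hβc.2, mul_assoc]]
      exact (comm_inv e3.symm).symm
    rcases sgn (r * i) (mul_mem hr hiR) ((cxy_iff hO hF).2 ⟨e1, e2⟩) with e | e
    · left
      calc β * r = β * (r * i) * i⁻¹ := by group
        _ = _ := by rw [e, mul_assoc (r * i), hbi]; group
    · right
      calc β * r = β * (r * i) * i⁻¹ := by group
        _ = _ := by rw [e, neg_mul, mul_assoc (r * i), hbi]; group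
  have e2 : (c * c) • J = J := by
    conv_rhs => rw [← mem_iso.1 (hO.kle hβK), hc]
    rw [Matrix.transpose_smul, Matrix.smul_mul, Matrix.mul_smul, Matrix.smul_mul, smul_smul, mem_iso.1 (hO.le hs')]
  have e3 : (c * c - 1) • J = 0 := by rw [sub_smul, one_smul, e2, sub_self]
  rcases mul_self_eq_one_iff.1 (sub_eq_zero.1 ((smul_eq_zero.1 e3).resolve_right hO.jne)) with rfl | rfl
  · exact (show β = s from Units.ext (by rw [hc, one_smul])) ▸ hs'
  · exact (show β = -s from Units.ext (by rw [hc, neg_one_smul, Units.val_neg])) ▸ h.neg_mem hs'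

end Cfsg.Agent.ClassicalMax.SympPlus
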